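import Cfsg.Agent.H802.FusSub
import Cfsg.Agent.EvenType.StrongP

/-!
# Essential subgroups and Alperin's fusion theorem (helper802)
-/

set_option autoImplicit false

namespace Cfsg.Agent.H802

open Cfsg Cfsg.FusionSystem

variable {Ω : Type*} [Group Ω] {S : Subgroup Ω}

/-- `α` extends to a map of the system with larger source. -/
def Extends (F : FusionSystem S) (Q : Subgroup Ω) (α : MulAut Q) : Prop :=
  ∃ (R : Subgroup Ω) (hQR : Q ≤ R), Nat.card Q < Nat.card R ∧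
    ∃ ψ ∈ F.Hom R, ∀ x : Q, ψ ⟨x, hQR x.2⟩ = (α x : Q)

theorem conj_mem_autInducedBy {g : Ω} (hg : g ∈ S) {Q : Subgroup Ω} {α : MulAut Q}
    (h : ∀ x : Q, ((α x : Q) : Ω) = g * x * g⁻¹) : α ∈ autInducedBy S Q :=
  (mem_autInducedBy_iff S Q α).2 ⟨g, hg, h⟩

theorem inn_le_autInducedBy {Q : Subgroup Ω} (hQ : Q ≤ S) : Inn Q ≤ autInducedBy S Q := by
  rintro _ ⟨q, rfl⟩
  exact conj_mem_autInducedBy (hQ q.2) (fun x => rfl)

theorem inn_le_autGroup (F : FusionSystem S) {Q : Subgroup Ω} (hQ : Q ≤ S) :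
    Inn Q ≤ F.autGroup Q :=
  (inn_le_autInducedBy hQ).trans (autInducedBy_le_autGroup F hQ)

/-- For `Q` containing `C_S(Q)`, an element of `S` inducing an inner automorphism of `Q` lies in `Q`. -/
theorem mem_of_conj_mem_inn {Q : Subgroup Ω} (hQS : Q ≤ S) (hC : centralizerIn S Q ≤ Q) {g : Ω}
    (hg : g ∈ S) {α : MulAut Q} (h : ∀ x : Q, ((α x : Q) : Ω) = g * x * g⁻¹) (hα : α ∈ Inn Q) :
    g ∈ Q := by
  obtain ⟨q, rfl⟩ := hα
  have h1 : (q : Ω)⁻¹ * g ∈ centralizerIn S Q := by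
    refine ⟨S.mul_mem (S.inv_mem (hQS q.2)) hg, Subgroup.mem_centralizer_iff.2 fun x hx => ?_⟩
    have h2 : (q : Ω) * x * (q : Ω)⁻¹ = g * x * g⁻¹ := h ⟨x, hx⟩
    calc x * ((q : Ω)⁻¹ * g) = (q : Ω)⁻¹ * ((q : Ω) * x * (q : Ω)⁻¹) * g := by group
      _ = (q : Ω)⁻¹ * (g * x * g⁻¹) * g := by rw [h2]
      _ = (q : Ω)⁻¹ * g * x := by group
  have h2 := Q.mul_mem q.2 (hC h1)
  rwa [mul_inv_cancel_left] at h2

/-- If `α c_g α⁻¹ ∈ Aut_S(Q)` for some `g ∈ N_S(Q)` outside `Q`, and `Q` is receptive, then `α` extends. -/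
theorem extends_of_conj_mem [Finite S] {F : FusionSystem S} {Q : Subgroup Ω}
    (hQ : F.IsReceptive Q) {α β : MulAut Q} (hα : α ∈ F.autGroup Q) {g : Ω} (hg : g ∈ S)
    (hgQ : g ∉ Q) (hβ : ∀ x : Q, ((β x : Q) : Ω) = g * x * g⁻¹)
    (h : α * β * α⁻¹ ∈ autInducedBy S Q) : Extends F Q α := by
  have hQS := hQ.1
  have hfinQ : Finite Q := finite_of_le hQS
  have hα' := (mem_autGroup_iff F hQS α).1 hα
  obtain ⟨ψ, hψ, hψe⟩ := hQ.2 Q _ hα' (range_eq_of_mapsTo hα' (fun x => (α x).2))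
  have hQE : Q ≤ extender S Q (Q.subtype.comp α.toMonoidHom) :=
    le_extender hQS (hom_apply_mem hα')
  refine ⟨_, hQE, ?_, ψ, hψ, fun x => hψe x x.2 _⟩
  have hgE : g ∈ extender S Q (Q.subtype.comp α.toMonoidHom) := by
    rw [mem_extender_iff]
    refine ⟨hg, mem_normalizer_of_aut hβ, ?_⟩
    obtain ⟨k, hk, hke⟩ := (mem_autInducedBy_iff S Q _).1 h
    refine ⟨k, hk, fun x hx => ?_⟩
    have h1 := hke (α x)
    rw [MulAut.mul_apply, MulAut.mul_apply] at h1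
    have h2 : α⁻¹ (α x) = x := α.symm_apply_apply _
    rw [h2] at h1
    show ((α ⟨g * x * g⁻¹, hx⟩ : Q) : Ω) = k * ((α x : Q) : Ω) * k⁻¹
    rw [← h1]
    have h3 : (⟨g * x * g⁻¹, hx⟩ : Q) = β x := Subtype.ext (hβ x).symm
    rw [h3]
  have hfin : Finite (extender S Q (Q.subtype.comp α.toMonoidHom)) :=
    finite_of_le (extender_le _ _ _)
  refine lt_of_le_of_ne (Nat.card_mono (Set.toFinite _) hQE) fun heq => hgQ ?_
  rw [Subgroup.eq_of_le_of_card_ge hQE heq.ge]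
  exact hgE

/-- Automorphisms of `Q` induced by elements of `S` extend, if `Q ≠ S`. -/
theorem extends_of_mem_autInducedBy {p : ℕ} [Fact p.Prime] [Finite S] (hS : IsPGroup p S)
    (F : FusionSystem S) {Q : Subgroup Ω} (hQS : Q ≤ S) (hne : Q ≠ S) {α : MulAut Q}
    (hα : α ∈ autInducedBy S Q) : Extends F Q α := by
  obtain ⟨g, hg, h⟩ := (mem_autInducedBy_iff S Q α).1 hα
  exact ⟨_, le_normalizerIn hQS, card_lt_card_normalizerIn hS hQS hne, _,
    F.conj_mem inf_le_left hg, fun x => (h x).symm⟩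

/-- **Criterion for essential subgroups.** Let `Q` be fully normalized and centric in the saturated system `F`,
`Q ≠ S`. If a subgroup `D` of `Aut(Q)` contains all elements of `Aut_F(Q)` that extend to larger subgroups but
not all of `Aut_F(Q)`, then `Q` is essential. -/
theorem isEssential_of_not_le {p : ℕ} [Fact p.Prime] [Finite S] (hS : IsPGroup p S)
    {F : FusionSystem S} (hF : F.IsSaturated p) {Q : Subgroup Ω} (hQn : F.IsFullyNormalized Q)
    (hQc : F.IsCentric Q) (hne : Q ≠ S) (D : Subgroup (MulAut Q))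
    (hD : ∀ α ∈ F.autGroup Q, Extends F Q α → α ∈ D) (hnot : ¬ F.autGroup Q ≤ D) :
    F.IsEssential p Q := by
  have hQS := hQn.1
  have hfinQ : Finite Q := finite_of_le hQS
  have hp : p.Prime := Fact.out
  have hQr := isReceptive_of_isFullyNormalized hS hF hQn
  have hC : centralizerIn S Q ≤ Q := hQc.2 Q (isConj_refl F hQS)
  have hnormal : ((Inn Q).subgroupOf (F.autGroup Q)).Normal := inferInstance
  refine ⟨hQc, hQn, hnormal, ?_⟩
  set A := F.autGroup Q with hA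
  obtain ⟨R, hR⟩ : ∃ R : Sylow p A, (R : Subgroup A) = (autInducedBy S Q).subgroupOf A :=
    (isFullyAutomized_of_isFullyNormalized hS hF hQn).2
  set I := (Inn Q).subgroupOf A with hI
  set π : A →* A ⧸ I := QuotientGroup.mk' I with hπ
  have hπs : Function.Surjective π := QuotientGroup.mk'_surjective I
  have hInnD : ∀ α ∈ Inn Q, α ∈ D := fun α hα =>
    hD α (inn_le_autGroup F hQS hα)
      (extends_of_mem_autInducedBy hS F hQS hne (inn_le_autInducedBy hQS hα))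
  have hker : ∀ a : A, π a = 1 ↔ (a : MulAut Q) ∈ Inn Q := by
    intro a
    rw [hπ, QuotientGroup.mk'_apply, QuotientGroup.eq_one_iff, hI, Subgroup.mem_subgroupOf]
  set P : Sylow p (A ⧸ I) := R.mapSurjective hπs with hP
  have hPm : ∀ y : A ⧸ I, y ∈ (P : Subgroup (A ⧸ I)) → ∃ b : A, (b : MulAut Q) ∈ autInducedBy S Q ∧
      π b = y := by
    intro y hy
    have hy' : y ∈ (R : Subgroup A).map π := hy
    obtain ⟨b, hb, rfl⟩ := hy'
    rw [hR] at hb
    exact ⟨b, Subgroup.mem_subgroupOf.1 hb, rfl⟩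
  refine ⟨(D.subgroupOf A).map π, ?_, ?_, P, ?_⟩
  · -- `p` divides the order of the quotient
    obtain ⟨g, hgN, hgQ⟩ : ∃ g ∈ normalizerIn S Q, g ∉ Q := by
      by_contra hcon
      push Not at hcon
      have h1 := card_lt_card_normalizerIn hS hQS hne
      have h2 : normalizerIn S Q = Q := le_antisymm hcon (le_normalizerIn hQS)
      rw [h2] at h1
      exact lt_irrefl _ h1
    obtain ⟨β, hβ⟩ := exists_conjAut hgN.2
    have hβS : β ∈ autInducedBy S Q := conj_mem_autInducedBy hgN.1 hβ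
    have hβA : β ∈ A := autInducedBy_le_autGroup F hQS hβS
    have hne1 : π ⟨β, hβA⟩ ≠ 1 := by
      rw [Ne, hker]
      exact fun h => hgQ (mem_of_conj_mem_inn hQS hC hgN.1 hβ h)
    have hβP : π ⟨β, hβA⟩ ∈ (P : Subgroup (A ⧸ I)) := by
      have : π ⟨β, hβA⟩ ∈ (R : Subgroup A).map π := ⟨⟨β, hβA⟩, by rw [hR]; exact hβS, rfl⟩
      exact this
    have hntP : Nontrivial (P : Subgroup (A ⧸ I)) :=
      ⟨⟨⟨_, hβP⟩, 1, fun h => hne1 (congrArg Subtype.val h)⟩⟩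
    obtain ⟨n, hn⟩ := IsPGroup.iff_card.1 P.isPGroup'
    have h3 : 1 < Nat.card (P : Subgroup (A ⧸ I)) := Finite.one_lt_card
    have h4 : p ∣ Nat.card (P : Subgroup (A ⧸ I)) := by
      rw [hn] at h3 ⊢
      cases n with
      | zero => simp at h3
      | succ n => exact Dvd.intro_left _ rfl
    exact h4.trans (Subgroup.card_subgroup_dvd_card _)
  · intro htop
    apply hnot
    intro α hα
    have h1 : π ⟨α, hα⟩ ∈ (D.subgroupOf A).map π := by
      rw [htop]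
      exact Subgroup.mem_top _
    obtain ⟨d, hd, hde⟩ := h1
    have h2 : π (d⁻¹ * ⟨α, hα⟩) = 1 := by
      rw [map_mul, map_inv, hde, inv_mul_cancel]
    rw [hker] at h2
    have h3 := D.mul_mem (Subgroup.mem_subgroupOf.1 hd) (hInnD _ h2)
    have h4 : (d : MulAut Q) * ((d⁻¹ * ⟨α, hα⟩ : A) : MulAut Q) = α := by
      rw [Subgroup.coe_mul, Subgroup.coe_inv, mul_inv_cancel_left]
    rwa [h4] at h3
  · refine EvenType.StrongP.core_le P.isPGroup' fun X hX hX1 => ?_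
    intro a ha
    obtain ⟨α, rfl⟩ := hπs a
    obtain ⟨x, hx1⟩ := (Subgroup.ne_bot_iff_exists_ne_one).1 hX1
    obtain ⟨b, hb, hbx⟩ := hPm x (hX x.2)
    obtain ⟨g, hg, hge⟩ := (mem_autInducedBy_iff S Q _).1 hb
    have hgQ : g ∉ Q := by
      intro hgQ
      apply hx1
      apply Subtype.ext
      rw [← hbx]
      exact (hker b).2 ⟨⟨g, hgQ⟩, MulEquiv.ext fun y => Subtype.ext (hge y).symm⟩
    have hconj : π α * x * (π α)⁻¹ ∈ X := (Subgroup.mem_normalizer_iff.1 ha x).1 x.2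
    obtain ⟨c, hc, hce⟩ := hPm _ (hX hconj)
    -- α b α⁻¹ = c * inner
    have h1 : π (c⁻¹ * (α * b * α⁻¹)) = 1 := by
      rw [map_mul, map_inv, hce, map_mul, map_mul, map_inv, hbx, inv_mul_cancel]
    rw [hker] at h1
    have h2 : ((α : MulAut Q) * (b : MulAut Q) * (α : MulAut Q)⁻¹) ∈ autInducedBy S Q := by
      have h3 := (autInducedBy S Q).mul_mem hc (inn_le_autInducedBy hQS h1)
      have h4 : (c : MulAut Q) * ((c⁻¹ * (α * b * α⁻¹) : A) : MulAut Q) =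
          (α : MulAut Q) * (b : MulAut Q) * (α : MulAut Q)⁻¹ := by
        simp only [Subgroup.coe_mul, Subgroup.coe_inv]
        rw [mul_inv_cancel_left]
      rwa [h4] at h3
    have h5 := hD α α.2 (extends_of_conj_mem hQr α.2 hg hgQ hge h2)
    exact ⟨α, Subgroup.mem_subgroupOf.2 h5, rfl⟩

/-- **Alperin's fusion theorem, essential version.** -/
theorem le_of_essential {p : ℕ} [Fact p.Prime] [Finite S] (hS : IsPGroup p S)
    {F : FusionSystem S} (hF : F.IsSaturated p) (F' : FusionSystem S)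
    (htop : F.autGroup S ≤ F'.autGroup S)
    (hess : ∀ Q : Subgroup Ω, F.IsEssential p Q →
      (∀ R : Subgroup Ω, Nat.card Q < Nat.card R → F.Hom R ⊆ F'.Hom R) →
      F.autGroup Q ≤ F'.autGroup Q) (P : Subgroup Ω) : F.Hom P ⊆ F'.Hom P := by
  refine le_of_centric hS hF F' (fun Q hQn hQc hbig => ?_) P
  by_cases hne : Q = S
  · subst hne
    exact htop
  by_contra hnot
  refine hnot (hess Q (isEssential_of_not_le hS hF hQn hQc hne (F'.autGroup Q) ?_ hnot) hbig)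
  rintro α - ⟨R, hQR, hcard, ψ, hψ, h⟩
  rw [mem_autGroup_iff F' hQn.1]
  exact mem_of_agree (hbig R hcard hψ) hQR (fun x hx => (h ⟨x, hx⟩).symm)

/-- An essential subgroup is not `S`. -/
theorem ne_of_isEssential {p : ℕ} [Fact p.Prime] [Finite S] (hS : IsPGroup p S)
    {F : FusionSystem S} (hF : F.IsSaturated p) {Q : Subgroup Ω} (hQ : F.IsEssential p Q) :
    Q ≠ S := by
  rintro rfl
  obtain ⟨hQc, hQn, hnormal, E, hdvd, -, -⟩ := hQ
  have hfinQ : Finite Q := ‹_›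
  obtain ⟨-, R, hR⟩ := isFullyAutomized_of_isFullyNormalized hS hF hQn
  have h1 : autInducedBy Q Q = Inn Q := by
    refine le_antisymm ?_ (inn_le_autInducedBy le_rfl)
    intro α hα
    obtain ⟨g, hg, h⟩ := (mem_autInducedBy_iff Q Q α).1 hα
    exact ⟨⟨g, hg⟩, MulEquiv.ext fun x => Subtype.ext (h x).symm⟩
  rw [h1] at hR
  have h2 : ¬ p ∣ (R : Subgroup (F.autGroup Q)).index := R.not_dvd_index
  rw [hR] at h2
  exact h2 hdvd

/-- **Extendable automorphisms of an essential subgroup lie in a proper subgroup of `Aut_F(Q)`.** -/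
theorem exists_proper_of_isEssential {p : ℕ} [Fact p.Prime] [Finite S] (hS : IsPGroup p S)
    {F : FusionSystem S} (hF : F.IsSaturated p) {Q : Subgroup Ω} (hQ : F.IsEssential p Q) :
    ∃ D : Subgroup (MulAut Q), D ≤ F.autGroup Q ∧ D ≠ F.autGroup Q ∧
      ∀ α ∈ F.autGroup Q, Extends F Q α → α ∈ D := by
  obtain ⟨hQc, hQn, hnormal, E, hE⟩ := hQ
  have hQS := hQn.1
  have hfinQ : Finite Q := finite_of_le hQS
  have hp : p.Prime := Fact.out
  have hC : centralizerIn S Q ≤ Q := hQc.2 Q (isConj_refl F hQS)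
  set A := F.autGroup Q with hA
  obtain ⟨R, hR⟩ : ∃ R : Sylow p A, (R : Subgroup A) = (autInducedBy S Q).subgroupOf A :=
    (isFullyAutomized_of_isFullyNormalized hS hF hQn).2
  set I := (Inn Q).subgroupOf A with hI
  set π : A →* A ⧸ I := QuotientGroup.mk' I with hπ
  have hπs : Function.Surjective π := QuotientGroup.mk'_surjective I
  have hker : ∀ a : A, π a = 1 ↔ (a : MulAut Q) ∈ Inn Q := by
    intro a
    rw [hπ, QuotientGroup.mk'_apply, QuotientGroup.eq_one_iff, hI, Subgroup.mem_subgroupOf]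
  set P : Sylow p (A ⧸ I) := R.mapSurjective hπs with hP
  obtain ⟨hdvd, htop, P₀, hP₀⟩ := hE
  have hP₀E : (P₀ : Subgroup (A ⧸ I)) ≤ E := EvenType.StrongP.sylow_le hdvd hP₀
  have hN₀ := EvenType.StrongP.normIn_of_core hdvd hP₀
  obtain ⟨b, hb⟩ := MulAction.exists_smul_eq (A ⧸ I) P₀ P
  set E₁ := E.map (MulAut.conj b).toMonoidHom with hE₁
  have hN₁ : EvenType.StrongP.NormIn p E₁ := hN₀.conj b
  have hPE : (P : Subgroup (A ⧸ I)) ≤ E₁ := by
    rw [← hb, Sylow.coe_subgroup_smul]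
    rintro _ ⟨x, hx, rfl⟩
    exact ⟨x, hP₀E hx, rfl⟩
  have hE₁top : E₁ ≠ ⊤ := by
    intro h
    apply htop
    rw [eq_top_iff]
    intro y _
    have h1 : b * y * b⁻¹ ∈ E₁ := by rw [h]; exact Subgroup.mem_top _
    rw [hE₁, EvenType.StrongP.mem_map_conj] at h1
    have e : b⁻¹ * (b * y * b⁻¹) * b = y := by group
    rwa [e] at h1
  refine ⟨(E₁.comap π).map A.subtype, ?_, ?_, ?_⟩
  · rintro _ ⟨a, -, rfl⟩
    exact a.2
  · intro h
    apply hE₁top
    rw [eq_top_iff]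
    intro y _
    obtain ⟨a, rfl⟩ := hπs y
    have h1 : (a : MulAut Q) ∈ (E₁.comap π).map A.subtype := by rw [h]; exact a.2
    obtain ⟨a', ha', hae⟩ := h1
    have : a' = a := Subtype.ext hae
    rw [← this]
    exact ha'
  · rintro α hα ⟨R', hQR', hcard, ψ, hψ, he⟩
    have hR'S : R' ≤ S := hom_le hψ
    -- an element g of R' normalizing Q, outside Q
    have hneR : Q ≠ R' := by
      rintro rfl
      exact lt_irrefl _ hcard
    obtain ⟨g, hg, hgQ⟩ := SetLike.exists_of_lt (lt_inf_normalizer hS hQR' hR'S hneR)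
    obtain ⟨β, hβ⟩ := exists_conjAut hg.2
    have hβS : β ∈ autInducedBy S Q := conj_mem_autInducedBy (hR'S hg.1) hβ
    have hβA : β ∈ A := autInducedBy_le_autGroup F hQS hβS
    -- α β α⁻¹ is conjugation by ψ g
    have hconj : α * β * α⁻¹ ∈ autInducedBy S Q := by
      refine conj_mem_autInducedBy (hom_apply_mem hψ ⟨g, hg.1⟩) fun x => ?_
      rw [MulAut.mul_apply, MulAut.mul_apply]
      have h1 : ((α (β (α⁻¹ x)) : Q) : Ω) = ψ ⟨_, hQR' (β (α⁻¹ x)).2⟩ := (he _).symm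
      have h2 : (⟨_, hQR' (β (α⁻¹ x)).2⟩ : R') = ⟨g, hg.1⟩ * ⟨_, hQR' (α⁻¹ x).2⟩ * ⟨g, hg.1⟩⁻¹ :=
        Subtype.ext (hβ _)
      have h3 : ψ ⟨_, hQR' (α⁻¹ x).2⟩ = x := by
        rw [he]
        have : α (α⁻¹ x) = x := α.apply_symm_apply x
        rw [this]
      rw [h1, h2, map_mul, map_mul, map_inv, h3]
    have hconjA : α * β * α⁻¹ ∈ A := autInducedBy_le_autGroup F hQS hconj
    have hmemP : ∀ (γ : MulAut Q) (hγ : γ ∈ autInducedBy S Q) (hγA : γ ∈ A),
        π ⟨γ, hγA⟩ ∈ (P : Subgroup (A ⧸ I)) := by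
      intro γ hγ hγA
      have : π ⟨γ, hγA⟩ ∈ (R : Subgroup A).map π := ⟨⟨γ, hγA⟩, by rw [hR]; exact hγ, rfl⟩
      exact this
    by_contra hnot
    have hnotE : π ⟨α, hα⟩ ∉ E₁ := by
      intro h
      exact hnot ⟨⟨α, hα⟩, h, rfl⟩
    apply hN₁.inter hnotE
    have hx : π ⟨α * β * α⁻¹, hconjA⟩ ∈ E₁ ⊓ E₁.map (MulAut.conj (π ⟨α, hα⟩)).toMonoidHom := by
      refine ⟨hPE (hmemP _ hconj hconjA), ?_⟩
      refine ⟨π ⟨β, hβA⟩, hPE (hmemP β hβS hβA), ?_⟩
      show π ⟨α, hα⟩ * π ⟨β, hβA⟩ * (π ⟨α, hα⟩)⁻¹ = _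
      rw [← map_inv, ← map_mul, ← map_mul]
      rfl
    have hx1 : π ⟨α * β * α⁻¹, hconjA⟩ ≠ 1 := by
      rw [Ne, hker]
      intro h
      have h1 : β ∈ Inn Q := by
        have h2 := (innNormal Q).conj_mem _ h α⁻¹
        have h3 : α⁻¹ * (α * β * α⁻¹) * α⁻¹⁻¹ = β := by group
        have h4 : α⁻¹ * (((⟨α * β * α⁻¹, hconjA⟩ : A)) : MulAut Q) * α⁻¹⁻¹ = β := h3
        rwa [h4] at h2
      exact hgQ (mem_of_conj_mem_inn hQS hC (hR'S hg.1) hβ h1)
    -- its order is a power of p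
    have hxP : π ⟨α * β * α⁻¹, hconjA⟩ ∈ (P : Subgroup (A ⧸ I)) := hmemP _ hconj hconjA
    obtain ⟨k, hk⟩ := P.isPGroup' ⟨_, hxP⟩
    have hk' : π ⟨α * β * α⁻¹, hconjA⟩ ^ p ^ k = 1 := congrArg Subtype.val hk
    have hord : p ∣ orderOf (π ⟨α * β * α⁻¹, hconjA⟩) := by
      have h1 := orderOf_dvd_of_pow_eq_one hk'
      obtain ⟨m, -, hm⟩ := (Nat.dvd_prime_pow hp).1 h1
      rw [hm]
      refine dvd_pow_self p ?_
      rintro rfl
      rw [pow_zero] at hm
      exact hx1 (orderOf_eq_one_iff.1 hm)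
    refine hord.trans ?_
    have h2 : orderOf (⟨_, hx⟩ : ↥(E₁ ⊓ E₁.map (MulAut.conj (π ⟨α, hα⟩)).toMonoidHom)) =
        orderOf (π ⟨α * β * α⁻¹, hconjA⟩) := Subgroup.orderOf_mk _ _
    rw [← h2]
    exact orderOf_dvd_natCard _

end Cfsg.Agent.H802
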