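import Mathlib.GroupTheory.Sylow

/-!
# Sylow subgroups of subgroups, inside an ambient group (helper802)
-/

set_option autoImplicit false

namespace Cfsg.Agent.H802

variable {Ω : Type*} [Group Ω]

/-- `R` is a Sylow `p`-subgroup of (the finite group) `K`. -/
def SylIn (p : ℕ) (R K : Subgroup Ω) : Prop :=
  R ≤ K ∧ Nat.card R = p ^ (Nat.card K).factorization p

variable {p : ℕ} {R K M B : Subgroup Ω}

theorem SylIn.le (h : SylIn p R K) : R ≤ K := h.1

theorem SylIn.isPGroup (h : SylIn p R K) : IsPGroup p R := IsPGroup.of_card h.2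

theorem card_subgroupOf_of_le (h : R ≤ K) : Nat.card (R.subgroupOf K) = Nat.card R :=
  Nat.card_congr (Subgroup.subgroupOfEquivOfLe h).toEquiv

/-- The Sylow subgroup object. -/
theorem SylIn.exists_sylow [Fact p.Prime] [Finite K] (h : SylIn p R K) :
    ∃ T : Sylow p K, (T : Subgroup K) = R.subgroupOf K := by
  have h1 : Nat.card (R.subgroupOf K) = p ^ (Nat.card K).factorization p := by
    rw [card_subgroupOf_of_le h.1, h.2]
  exact ⟨Sylow.ofCard _ h1, rfl⟩

theorem sylIn_of_sylow [Fact p.Prime] [Finite K] (T : Sylow p K) :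
    SylIn p ((T : Subgroup K).map K.subtype) K := by
  refine ⟨?_, ?_⟩
  · rintro _ ⟨x, -, rfl⟩
    exact x.2
  · rw [← T.card_eq_multiplicity]
    exact Nat.card_congr ((T : Subgroup K).equivMapOfInjective _
      (Subgroup.subtype_injective K)).symm.toEquiv

theorem sylIn_top_of_sylow [Fact p.Prime] [Finite Ω] (T : Sylow p Ω) :
    SylIn p (T : Subgroup Ω) ⊤ := by
  refine ⟨le_top, ?_⟩
  rw [T.card_eq_multiplicity, Subgroup.card_top]

/-- Sylow's theorem: every `p`-subgroup of `K` is `K`-conjugate into `R`. -/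
theorem SylIn.exists_conj [Fact p.Prime] [Finite K] (h : SylIn p R K) (hB : B ≤ K)
    (hBp : IsPGroup p B) : ∃ k ∈ K, ∀ b ∈ B, k * b * k⁻¹ ∈ R := by
  obtain ⟨T, hT⟩ := h.exists_sylow
  obtain ⟨T', hT'⟩ := (hBp.comap_of_injective K.subtype
    (Subgroup.subtype_injective K) : IsPGroup p (B.comap K.subtype)).exists_le_sylow
  obtain ⟨k, hk⟩ := MulAction.exists_smul_eq K T' T
  refine ⟨k, k.2, fun b hb => ?_⟩
  have h1 : (⟨b, hB hb⟩ : K) ∈ (T' : Subgroup K) := hT' hb
  have h2 : k * ⟨b, hB hb⟩ * k⁻¹ ∈ (T : Subgroup K) := by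
    rw [← hk]
    exact Subgroup.smul_mem_pointwise_smul (⟨b, hB hb⟩ : K) (MulAut.conj k)
      (T' : Subgroup K) h1
  rw [hT, Subgroup.mem_subgroupOf] at h2
  exact h2

/-- Existence of Sylow subgroups above a `p`-subgroup. -/
theorem exists_sylIn [Fact p.Prime] [Finite K] (hB : B ≤ K) (hBp : IsPGroup p B) :
    ∃ R, B ≤ R ∧ SylIn p R K := by
  obtain ⟨T, hT⟩ := (hBp.comap_of_injective K.subtype
    (Subgroup.subtype_injective K) : IsPGroup p (B.comap K.subtype)).exists_le_sylow
  refine ⟨_, ?_, sylIn_of_sylow T⟩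
  intro b hb
  exact ⟨⟨b, hB hb⟩, hT hb, rfl⟩

theorem SylIn.mono [Fact p.Prime] [Finite K] (h : SylIn p R K) (hRM : R ≤ M) (hMK : M ≤ K) :
    SylIn p R M := by
  have hfinM : Finite M := Finite.of_injective _ (Subgroup.inclusion_injective hMK)
  refine ⟨hRM, ?_⟩
  have hp : p.Prime := Fact.out
  have hposM : Nat.card M ≠ 0 := Nat.card_pos.ne'
  have hposK : Nat.card K ≠ 0 := Nat.card_pos.ne'
  have h1 : (Nat.card M).factorization p ≤ (Nat.card K).factorization p :=
    (Nat.factorization_le_iff_dvd hposM hposK).2 (Subgroup.card_dvd_of_le hMK) p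
  have h2 : (Nat.card K).factorization p ≤ (Nat.card M).factorization p := by
    apply (hp.pow_dvd_iff_le_factorization hposM).1
    rw [← h.2]
    exact Subgroup.card_dvd_of_le hRM
  rw [h.2, le_antisymm h1 h2]

theorem card_le_of_isPGroup [Fact p.Prime] [Finite K] (hB : B ≤ K) (hBp : IsPGroup p B) :
    Nat.card B ≤ p ^ (Nat.card K).factorization p := by
  have hfinB : Finite B := Finite.of_injective _ (Subgroup.inclusion_injective hB)
  have hp : p.Prime := Fact.out
  obtain ⟨n, hn⟩ := IsPGroup.iff_card.1 hBp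
  rw [hn]
  apply Nat.pow_le_pow_right hp.pos
  apply (hp.pow_dvd_iff_le_factorization Nat.card_pos.ne').1
  rw [← hn]
  exact Subgroup.card_dvd_of_le hB

theorem SylIn.eq_of_le [Fact p.Prime] [Finite K] (h : SylIn p R K) (hB : B ≤ K)
    (hBp : IsPGroup p B) (hRB : R ≤ B) : B = R := by
  have hfinB : Finite B := Finite.of_injective _ (Subgroup.inclusion_injective hB)
  exact (Subgroup.eq_of_le_of_card_ge hRB (h.2 ▸ card_le_of_isPGroup hB hBp)).symm

/-- A `p`-subgroup of `K` of the right order is Sylow. -/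
theorem sylIn_of_card_ge [Fact p.Prime] [Finite K] (hB : B ≤ K) (hBp : IsPGroup p B)
    (h : p ^ (Nat.card K).factorization p ≤ Nat.card B) : SylIn p B K :=
  ⟨hB, le_antisymm (card_le_of_isPGroup hB hBp) h⟩

theorem card_map_conj (g : Ω) (R : Subgroup Ω) :
    Nat.card (R.map (MulAut.conj g).toMonoidHom) = Nat.card R :=
  Nat.card_congr (R.equivMapOfInjective _ (MulAut.conj g).injective).symm.toEquiv

theorem SylIn.map_conj (h : SylIn p R K) (g : Ω) :
    SylIn p (R.map (MulAut.conj g).toMonoidHom) (K.map (MulAut.conj g).toMonoidHom) :=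
  ⟨Subgroup.map_mono h.1, by rw [card_map_conj, card_map_conj, h.2]⟩

/-- The intersection of a Sylow subgroup with a normal subgroup is a Sylow subgroup of it. -/
theorem SylIn.inf_normal [Fact p.Prime] [Finite K] (h : SylIn p R K) (hMK : M ≤ K)
    (hM : ∀ k ∈ K, ∀ m ∈ M, k * m * k⁻¹ ∈ M) : SylIn p (R ⊓ M) M := by
  have hfinM : Finite M := Finite.of_injective _ (Subgroup.inclusion_injective hMK)
  obtain ⟨B, -, hB⟩ := exists_sylIn (p := p) (B := (⊥ : Subgroup Ω)) (K := M) bot_le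
    (IsPGroup.of_bot)
  obtain ⟨k, hk, hkB⟩ := h.exists_conj (hB.le.trans hMK) hB.isPGroup
  have hRMp : IsPGroup p (R ⊓ M : Subgroup Ω) := h.isPGroup.to_le inf_le_left
  refine sylIn_of_card_ge inf_le_right hRMp ?_
  rw [← hB.2, ← card_map_conj k B]
  have hfin : Finite (R ⊓ M : Subgroup Ω) :=
    Finite.of_injective _ (Subgroup.inclusion_injective (inf_le_right : R ⊓ M ≤ M))
  refine Nat.card_mono (Set.toFinite _) ?_
  rintro _ ⟨b, hb, rfl⟩
  exact ⟨hkB b hb, hM k hk b (hB.le hb)⟩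

end Cfsg.Agent.H802
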