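import Cfsg.Agent.H802.FusNorm
import Cfsg.Agent.H802.SylIn

/-!
# Fusion systems of groups are saturated; normal subgroups give normal subsystems (helper802)
-/

set_option autoImplicit false

namespace Cfsg.Agent.H802

open Cfsg Cfsg.FusionSystem

variable {Ω : Type*} [Group Ω] {N T : Subgroup Ω} {p : ℕ}

theorem fs_mem_iff {hTN : T ≤ N} {P : Subgroup Ω} {φ : P →* Ω} :
    φ ∈ (fusionSystemOfSubgroup N T hTN).Hom P ↔
      P ≤ T ∧ (∀ x : P, φ x ∈ T) ∧ ∃ g ∈ N, ∀ x : P, φ x = g * (x : Ω) * g⁻¹ := Iff.rfl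

theorem fs_autGroup (hTN : T ≤ N) {P : Subgroup Ω} (hP : P ≤ T) :
    (fusionSystemOfSubgroup N T hTN).autGroup P = autInducedBy N P := by
  ext α
  rw [mem_autGroup_iff _ hP, mem_autInducedBy_iff, fs_mem_iff]
  constructor
  · rintro ⟨-, -, g, hg, h⟩
    exact ⟨g, hg, h⟩
  · rintro ⟨g, hg, h⟩
    exact ⟨hP, fun x => hP (α x).2, g, hg, h⟩

/-- Criterion for a subgroup to be fully automized in `F_T(N)`. -/
theorem fs_isFullyAutomized [Fact p.Prime] [Finite N] (hTN : T ≤ N) (hTp : IsPGroup p T)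
    {P : Subgroup Ω} (hP : P ≤ T) (h : SylIn p (normalizerIn T P) (normalizerIn N P)) :
    (fusionSystemOfSubgroup N T hTN).IsFullyAutomized p P := by
  have hfinT : Finite T := finite_of_le hTN
  rw [isFullyAutomized_iff_card hTp hP, fs_autGroup hTN hP]
  have hfinP : Finite P := finite_of_le (hP.trans hTN)
  have hp : p.Prime := Fact.out
  have h1 := card_autInducedBy_mul T P
  have h2 := card_autInducedBy_mul N P
  have hTNaut : autInducedBy T P ≤ autInducedBy N P := by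
    intro α hα
    rw [mem_autInducedBy_iff] at hα ⊢
    obtain ⟨g, hg, h⟩ := hα
    exact ⟨g, hTN hg, h⟩
  have hpg : IsPGroup p (autInducedBy T P) := isPGroup_autInducedBy hTp P
  refine le_antisymm (card_le_of_isPGroup hTNaut hpg) ?_
  -- numerics
  have hfinNN : Finite (normalizerIn N P) := finite_of_le inf_le_left
  have hfinCN : Finite (centralizerIn N P) := finite_of_le inf_le_left
  have hfinCT : Finite (centralizerIn T P) := finite_of_le inf_le_left
  set aN := Nat.card (autInducedBy N P) with haN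
  set aT := Nat.card (autInducedBy T P) with haT
  have haN0 : aN ≠ 0 := Nat.card_pos.ne'
  have haT0 : aT ≠ 0 := Nat.card_pos.ne'
  have hcN0 : Nat.card (centralizerIn N P) ≠ 0 := Nat.card_pos.ne'
  have hcT0 : Nat.card (centralizerIn T P) ≠ 0 := Nat.card_pos.ne'
  have h3 : (aN * Nat.card (centralizerIn N P)).factorization p =
      (aT * Nat.card (centralizerIn T P)).factorization p := by
    rw [h1, h2, h.2, Nat.factorization_pow]
    simp [hp.factorization]
  rw [Nat.factorization_mul haN0 hcN0, Nat.factorization_mul haT0 hcT0] at h3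
  have h4 : (Nat.card (centralizerIn T P)).factorization p ≤
      (Nat.card (centralizerIn N P)).factorization p :=
    (Nat.factorization_le_iff_dvd hcT0 hcN0).2
      (Subgroup.card_dvd_of_le (inf_le_inf_right _ hTN)) p
  have h5 : aN.factorization p ≤ aT.factorization p := by
    simp only [Finsupp.add_apply] at h3
    omega
  calc p ^ aN.factorization p ≤ p ^ aT.factorization p := Nat.pow_le_pow_right hp.pos h5
    _ ≤ aT := Nat.le_of_dvd (Nat.pos_of_ne_zero haT0) (Nat.ordProj_dvd aT p)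

/-- Criterion for a subgroup to be receptive in `F_T(N)`. -/
theorem fs_isReceptive [Fact p.Prime] [Finite N] (hTN : T ≤ N) (hTp : IsPGroup p T)
    {Q : Subgroup Ω} (hQ : Q ≤ T) (h : SylIn p (normalizerIn T Q) (normalizerIn N Q)) :
    (fusionSystemOfSubgroup N T hTN).IsReceptive Q := by
  refine ⟨hQ, ?_⟩
  rintro P φ ⟨hP, hφT, n, hn, hφ⟩ hφQ
  have hfinNN : Finite (normalizerIn N Q) := finite_of_le inf_le_left
  set E := extender T P φ with hE
  -- B = n E n⁻¹ ; K = C_N(Q) N_T(Q)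
  set B := E.map (MulAut.conj n).toMonoidHom with hB
  have hφm : ∀ x : P, φ x ∈ Q := fun x => hφQ.le ⟨x, rfl⟩
  have hQP : ∀ z ∈ Q, ∃ x : P, φ x = z := fun z hz => by
    have := hφQ.ge hz
    exact this
  -- every element of E, conjugated by n, is t * c with t ∈ N_T(Q), c ∈ C_N(Q)
  have hEdec : ∀ g ∈ E, ∃ t ∈ normalizerIn T Q, (t⁻¹ * (n * g * n⁻¹)) ∈ centralizerIn N Q := by
    intro g hg
    obtain ⟨hgT, hgN, t, ht, hte⟩ := (mem_extender_iff T P φ g).1 hg
    have hact : ∀ z ∈ Q, (n * g * n⁻¹) * z * (n * g * n⁻¹)⁻¹ = t * z * t⁻¹ := by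
      intro z hz
      obtain ⟨x, rfl⟩ := hQP z hz
      have hx : g * (x : Ω) * g⁻¹ ∈ P := (Subgroup.mem_normalizer_iff.1 hgN x).1 x.2
      rw [← hte x hx, hφ, hφ]
      show n * g * n⁻¹ * (n * ↑x * n⁻¹) * (n * g * n⁻¹)⁻¹ = n * (g * ↑x * g⁻¹) * n⁻¹
      group
    have hact2 : ∀ z ∈ Q, t * z * t⁻¹ ∈ Q := by
      intro z hz
      obtain ⟨x, rfl⟩ := hQP z hz
      have hx : g * (x : Ω) * g⁻¹ ∈ P := (Subgroup.mem_normalizer_iff.1 hgN x).1 x.2
      rw [← hte x hx]
      exact hφm _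
    have htN : t ∈ Subgroup.normalizer (Q : Set Ω) := by
      have hfinQ : Finite Q := finite_of_le (hQ.trans hTN)
      have hle : Q.map (MulAut.conj t).toMonoidHom ≤ Q := by
        rintro _ ⟨z, hz, rfl⟩
        exact hact2 z hz
      have heq : Q.map (MulAut.conj t).toMonoidHom = Q :=
        Subgroup.eq_of_le_of_card_ge hle (card_map_conj t Q).ge
      refine Subgroup.mem_normalizer_iff.2 fun z => ⟨hact2 z, fun hz => ?_⟩
      rw [← heq] at hz
      obtain ⟨w, hw, hwe⟩ := hz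
      have hwe' : t * w * t⁻¹ = t * z * t⁻¹ := hwe
      have hwz : w = z := mul_left_cancel (mul_right_cancel hwe')
      rw [← hwz]
      exact hw
    refine ⟨t, ⟨ht, htN⟩, N.mul_mem (N.inv_mem (hTN ht))
      (N.mul_mem (N.mul_mem hn (hTN hgT)) (N.inv_mem hn)), ?_⟩
    refine Subgroup.mem_centralizer_iff.2 fun z hz => ?_
    have h1 := hact z hz
    calc z * (t⁻¹ * (n * g * n⁻¹)) = t⁻¹ * (t * z * t⁻¹) * (n * g * n⁻¹) := by group
      _ = t⁻¹ * ((n * g * n⁻¹) * z * (n * g * n⁻¹)⁻¹) * (n * g * n⁻¹) := by rw [h1]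
      _ = t⁻¹ * (n * g * n⁻¹) * z := by group
  -- the group K = N_T(Q) C_N(Q)
  have hCnorm : ∀ k ∈ normalizerIn N Q, ∀ c ∈ centralizerIn N Q,
      k * c * k⁻¹ ∈ centralizerIn N Q := by
    intro k hk c hc
    refine ⟨N.mul_mem (N.mul_mem hk.1 hc.1) (N.inv_mem hk.1), ?_⟩
    refine Subgroup.mem_centralizer_iff.2 fun z hz => ?_
    have hz' : k⁻¹ * z * k ∈ Q := by
      have := (Subgroup.mem_normalizer_iff.1 ((Subgroup.normalizer (Q : Set Ω)).inv_mem hk.2) z).1 hz
      simpa using this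
    have h1 := Subgroup.mem_centralizer_iff.1 hc.2 _ hz'
    calc z * (k * c * k⁻¹) = k * ((k⁻¹ * z * k) * c) * k⁻¹ := by group
      _ = k * (c * (k⁻¹ * z * k)) * k⁻¹ := by rw [h1]
      _ = k * c * k⁻¹ * z := by group
  let K : Subgroup Ω :=
    { carrier := {k | ∃ t ∈ normalizerIn T Q, t⁻¹ * k ∈ centralizerIn N Q}
      one_mem' := ⟨1, Subgroup.one_mem _, by simp⟩
      mul_mem' := by
        rintro a b ⟨t, ht, hta⟩ ⟨s, hs, hsb⟩
        refine ⟨t * s, Subgroup.mul_mem _ ht hs, ?_⟩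
        have hs' : s ∈ normalizerIn N Q := ⟨hTN hs.1, hs.2⟩
        have h1 := hCnorm s⁻¹ (Subgroup.inv_mem _ hs') _ hta
        have h2 : (t * s)⁻¹ * (a * b) = (s⁻¹ * (t⁻¹ * a) * s⁻¹⁻¹) * (s⁻¹ * b) := by group
        rw [h2]
        exact Subgroup.mul_mem _ h1 hsb
      inv_mem' := by
        rintro a ⟨t, ht, hta⟩
        refine ⟨t⁻¹, Subgroup.inv_mem _ ht, ?_⟩
        have ht' : t ∈ normalizerIn N Q := ⟨hTN ht.1, ht.2⟩
        have h1 := hCnorm t ht' _ (Subgroup.inv_mem _ hta)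
        have h2 : (t⁻¹)⁻¹ * a⁻¹ = t * (t⁻¹ * a)⁻¹ * t⁻¹ := by group
        rw [h2]
        exact h1 }
  have hKN : K ≤ normalizerIn N Q := by
    rintro k ⟨t, ht, htk⟩
    have h1 : k = t * (t⁻¹ * k) := by group
    rw [h1]
    exact Subgroup.mul_mem _ (⟨hTN ht.1, ht.2⟩ : t ∈ normalizerIn N Q)
      (centralizerIn_le_normalizerIn N Q htk)
  have hTK : normalizerIn T Q ≤ K := fun t ht => ⟨t, ht, by simp⟩
  have hBK : B ≤ K := by
    rintro _ ⟨g, hg, rfl⟩
    exact hEdec g hg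
  have hBp : IsPGroup p B := (hTp.to_le (extender_le T P φ)).map _
  have hsyl : SylIn p (normalizerIn T Q) K := h.mono hTK hKN
  have hfinK : Finite K := finite_of_le hKN
  obtain ⟨k, ⟨t, ht, htk⟩, hkB⟩ := hsyl.exists_conj hBK hBp
  set c := t⁻¹ * k with hc
  -- c n conjugates E into N_T(Q)
  have hcE : ∀ g ∈ E, (c * n) * g * (c * n)⁻¹ ∈ normalizerIn T Q := by
    intro g hg
    have h1 := hkB (n * g * n⁻¹) ⟨g, hg, rfl⟩
    have h2 : (c * n) * g * (c * n)⁻¹ = t⁻¹ * (k * (n * g * n⁻¹) * k⁻¹) * t := by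
      rw [hc]
      group
    rw [h2]
    exact Subgroup.mul_mem _ (Subgroup.mul_mem _ (Subgroup.inv_mem _ ht) h1) ht
  have hcnN : c * n ∈ N := N.mul_mem htk.1 hn
  refine ⟨conjHom E (c * n), ⟨extender_le T P φ, fun x => (hcE x x.2).1, c * n, hcnN,
    fun x => rfl⟩, fun x hxP hxE => ?_⟩
  show (c * n) * x * (c * n)⁻¹ = φ ⟨x, hxP⟩
  have h1 := Subgroup.mem_centralizer_iff.1 htk.2 _ (hφm ⟨x, hxP⟩)
  rw [hφ] at h1 ⊢
  calc c * n * x * (c * n)⁻¹ = c * (n * x * n⁻¹) * c⁻¹ := by group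
    _ = (n * x * n⁻¹) * c * c⁻¹ := by
      have h2 : n * x * n⁻¹ * c = c * (n * x * n⁻¹) := h1
      rw [h2]
    _ = n * x * n⁻¹ := by group

/-- Every subgroup of the Sylow subgroup `T` of `N` has an `N`-conjugate `Q ≤ T` such that `N_T(Q)` is a Sylow
subgroup of `N_N(Q)`. -/
theorem exists_conj_sylIn [Fact p.Prime] [Finite N] (hT : SylIn p T N) {P : Subgroup Ω}
    (hP : P ≤ T) : ∃ n ∈ N, P.map (MulAut.conj n).toMonoidHom ≤ T ∧
      SylIn p (normalizerIn T (P.map (MulAut.conj n).toMonoidHom))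
        (normalizerIn N (P.map (MulAut.conj n).toMonoidHom)) := by
  have hfinNP : Finite (normalizerIn N P) := finite_of_le inf_le_left
  obtain ⟨R, hPR, hR⟩ := exists_sylIn (p := p) (K := normalizerIn N P) (B := P)
    (le_normalizerIn (hP.trans hT.le)) (hT.isPGroup.to_le hP)
  have hRN : R ≤ N := hR.le.trans inf_le_left
  obtain ⟨n, hn, hnR⟩ := hT.exists_conj hRN hR.isPGroup
  have hQT : P.map (MulAut.conj n).toMonoidHom ≤ T := by
    rintro _ ⟨x, hx, rfl⟩
    exact hnR x (hPR hx)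
  refine ⟨n, hn, hQT, ?_⟩
  set Q := P.map (MulAut.conj n).toMonoidHom with hQ
  -- N_N(Q) = n N_N(P) n⁻¹
  have hNQ : (normalizerIn N P).map (MulAut.conj n).toMonoidHom = normalizerIn N Q := by
    have hmem : ∀ z, z ∈ Q ↔ n⁻¹ * z * n ∈ P := by
      intro z
      constructor
      · rintro ⟨x, hx, rfl⟩
        have : n⁻¹ * (n * x * n⁻¹) * n = x := by group
        show n⁻¹ * (n * x * n⁻¹) * n ∈ P
        rw [this]
        exact hx
      · intro hz
        exact ⟨_, hz, by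
          show n * (n⁻¹ * z * n) * n⁻¹ = z
          group⟩
    ext y
    constructor
    · rintro ⟨x, hx, rfl⟩
      refine ⟨N.mul_mem (N.mul_mem hn hx.1) (N.inv_mem hn), ?_⟩
      refine Subgroup.mem_normalizer_iff.2 fun z => ?_
      rw [hmem, hmem]
      have h1 := Subgroup.mem_normalizer_iff.1 hx.2 (n⁻¹ * z * n)
      rw [h1]
      have h2 : x * (n⁻¹ * z * n) * x⁻¹ =
        n⁻¹ * ((MulAut.conj n).toMonoidHom x * z * ((MulAut.conj n).toMonoidHom x)⁻¹) * n := by
        show x * (n⁻¹ * z * n) * x⁻¹ = n⁻¹ * ((n * x * n⁻¹) * z * (n * x * n⁻¹)⁻¹) * n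
        group
      rw [h2]
    · rintro ⟨hyN, hyQ⟩
      refine ⟨n⁻¹ * y * n, ⟨N.mul_mem (N.mul_mem (N.inv_mem hn) hyN) hn, ?_⟩, by
        show n * (n⁻¹ * y * n) * n⁻¹ = y
        group⟩
      refine Subgroup.mem_normalizer_iff.2 fun z => ?_
      have h1 := Subgroup.mem_normalizer_iff.1 hyQ (n * z * n⁻¹)
      rw [hmem, hmem] at h1
      have h2 : n⁻¹ * (n * z * n⁻¹) * n = z := by group
      have h3 : n⁻¹ * (y * (n * z * n⁻¹) * y⁻¹) * n = n⁻¹ * y * n * z * (n⁻¹ * y * n)⁻¹ := by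
        group
      rwa [h2, h3] at h1
  have h1 := hR.map_conj n
  rw [hNQ] at h1
  have hfinNQ : Finite (normalizerIn N Q) := finite_of_le inf_le_left
  have h2 : R.map (MulAut.conj n).toMonoidHom ≤ normalizerIn T Q := by
    rintro _ ⟨x, hx, rfl⟩
    exact ⟨hnR x hx, (h1.le ⟨x, hx, rfl⟩).2⟩
  have h3 : normalizerIn T Q = R.map (MulAut.conj n).toMonoidHom :=
    h1.eq_of_le (inf_le_inf_right _ hT.le) (hT.isPGroup.to_le inf_le_left) h2
  rw [h3]
  exact h1

/-- **The fusion system `F_T(N)` of a finite group on a Sylow `p`-subgroup is saturated.** -/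
theorem fs_isSaturated [Fact p.Prime] [Finite N] (hT : SylIn p T N) :
    (fusionSystemOfSubgroup N T hT.le).IsSaturated p := by
  intro P hP
  obtain ⟨n, hn, hQT, hsyl⟩ := exists_conj_sylIn hT hP
  refine ⟨_, ⟨(MulAut.conj n).toMonoidHom.comp P.subtype,
    ⟨hP, fun x => hQT ⟨x, x.2, rfl⟩, n, hn, fun x => rfl⟩, ?_⟩,
    fs_isFullyAutomized hT.le hT.isPGroup hQT hsyl,
    fs_isReceptive hT.le hT.isPGroup hQT hsyl⟩
  rw [MonoidHom.range_comp, Subgroup.range_subtype]

theorem hom_groupFusionSystem (S : Subgroup Ω) (P : Subgroup Ω) :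
    (groupFusionSystem S).Hom P = (fusionSystemOfSubgroup ⊤ S le_top).Hom P := by
  ext φ
  constructor
  · rintro ⟨hP, hφ, g, hg⟩
    exact ⟨hP, hφ, g, Subgroup.mem_top g, hg⟩
  · rintro ⟨hP, hφ, g, -, hg⟩
    exact ⟨hP, hφ, g, hg⟩

/-- A fusion system is determined by its sets of maps. -/
theorem fusionSystem_ext {S : Subgroup Ω} {F E : FusionSystem S}
    (h : ∀ P, F.Hom P = E.Hom P) : F = E := by
  cases F
  cases E
  congr
  funext P
  exact h P

theorem groupFusionSystem_eq (S : Subgroup Ω) :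
    groupFusionSystem S = fusionSystemOfSubgroup ⊤ S le_top :=
  fusionSystem_ext (hom_groupFusionSystem S)

theorem innerFusionSystem_eq (S : Subgroup Ω) :
    innerFusionSystem S = fusionSystemOfSubgroup S S le_rfl := by
  refine fusionSystem_ext fun P => ?_
  ext φ
  constructor
  · rintro ⟨hP, g, hg, h⟩
    exact ⟨hP, fun x => by rw [h]; exact S.mul_mem (S.mul_mem hg (hP x.2)) (S.inv_mem hg), g, hg, h⟩
  · rintro ⟨hP, -, g, hg, h⟩
    exact ⟨hP, g, hg, h⟩

/-- The fusion system of a finite group on a Sylow `p`-subgroup is saturated. -/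
theorem groupFusionSystem_isSaturated [Fact p.Prime] [Finite Ω] (S : Sylow p Ω) :
    (groupFusionSystem (S : Subgroup Ω)).IsSaturated p := by
  rw [groupFusionSystem_eq]
  exact fs_isSaturated (sylIn_top_of_sylow S)

/-- The inner fusion system of a finite `p`-group is saturated. -/
theorem innerFusionSystem_isSaturated [Fact p.Prime] {S : Subgroup Ω} [Finite S]
    (hS : IsPGroup p S) : (innerFusionSystem S).IsSaturated p := by
  rw [innerFusionSystem_eq]
  have h : SylIn p S S := sylIn_of_card_ge le_rfl hS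
    (Nat.le_of_dvd Nat.card_pos (Nat.ordProj_dvd _ p))
  exact fs_isSaturated h

end Cfsg.Agent.H802
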