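import Cfsg.Prelude.Def_FusionSystem

/-!
# Basic theory of fusion systems (helper802)

Restriction, composition, inverses, conjugacy, automorphism groups, extenders.
-/

set_option autoImplicit false

namespace Cfsg.Agent.H802

open Cfsg Cfsg.FusionSystem

variable {Ω : Type*} [Group Ω] {S : Subgroup Ω}

/-! ### Elementary closure properties -/

theorem hom_le {F : FusionSystem S} {P : Subgroup Ω} {φ : P →* Ω} (h : φ ∈ F.Hom P) : P ≤ S :=
  (F.le_of_mem h).1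

theorem hom_apply_mem {F : FusionSystem S} {P : Subgroup Ω} {φ : P →* Ω} (h : φ ∈ F.Hom P)
    (x : P) : φ x ∈ S :=
  (F.le_of_mem h).2 x

theorem range_le_of_mem {F : FusionSystem S} {P : Subgroup Ω} {φ : P →* Ω} (h : φ ∈ F.Hom P) :
    φ.range ≤ S := by
  rintro _ ⟨x, rfl⟩
  exact hom_apply_mem h x

/-- A homomorphism pointwise equal to a map of the system is a map of the system. -/
theorem mem_of_apply_eq {F : FusionSystem S} {P : Subgroup Ω} {φ ψ : P →* Ω} (h : φ ∈ F.Hom P)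
    (he : ∀ x, ψ x = φ x) : ψ ∈ F.Hom P := by
  have : ψ = φ := MonoidHom.ext he
  rwa [this]

/-- Transport of membership along an equality of sources. -/
theorem mem_of_eq_source {F : FusionSystem S} {P Q : Subgroup Ω} (hPQ : P = Q) {φ : P →* Ω}
    {ψ : Q →* Ω} (h : φ ∈ F.Hom P)
    (he : ∀ (x : Ω) (hx : x ∈ P) (hx' : x ∈ Q), ψ ⟨x, hx'⟩ = φ ⟨x, hx⟩) : ψ ∈ F.Hom Q := by
  subst hPQ
  exact mem_of_apply_eq h (fun x => he x x.2 x.2)

/-- The inclusion of a subgroup of `S` is a map of the system. -/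
theorem subtype_mem (F : FusionSystem S) {P : Subgroup Ω} (hP : P ≤ S) : P.subtype ∈ F.Hom P := by
  refine mem_of_apply_eq (F.conj_mem (g := 1) hP S.one_mem) (fun x => ?_)
  simp [conjHom]

/-- Restriction of a map of the system. -/
theorem restrict_mem {F : FusionSystem S} {P R : Subgroup Ω} {φ : P →* Ω} (h : φ ∈ F.Hom P)
    (hR : R ≤ P) : φ.comp (Subgroup.inclusion hR) ∈ F.Hom R := by
  refine mem_of_apply_eq
    (F.comp_mem (subtype_mem F (hR.trans (hom_le h))) h (fun x => hR x.2)) (fun x => ?_)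
  rfl

/-- A homomorphism on `R ≤ P` which agrees with a map of the system on `P` is a map of the system. -/
theorem mem_of_agree {F : FusionSystem S} {P R : Subgroup Ω} {φ : P →* Ω} (h : φ ∈ F.Hom P)
    (hR : R ≤ P) {ψ : R →* Ω} (he : ∀ (x : Ω) (hx : x ∈ R), ψ ⟨x, hx⟩ = φ ⟨x, hR hx⟩) :
    ψ ∈ F.Hom R :=
  mem_of_apply_eq (restrict_mem h hR) (fun x => he x x.2)

/-- Composition, in existential form with pointwise description. -/
theorem exists_comp {F : FusionSystem S} {P Q : Subgroup Ω} {φ : P →* Ω} {ψ : Q →* Ω}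
    (hφ : φ ∈ F.Hom P) (hψ : ψ ∈ F.Hom Q) (h : ∀ x : P, φ x ∈ Q) :
    ∃ χ ∈ F.Hom P, ∀ x : P, χ x = ψ ⟨φ x, h x⟩ :=
  ⟨_, F.comp_mem hφ hψ h, fun _ => rfl⟩

/-- Inverse, in existential form. -/
theorem exists_inv {F : FusionSystem S} {P Q : Subgroup Ω} {φ : P →* Ω} (h : φ ∈ F.Hom P)
    (hQ : φ.range = Q) :
    ∃ ψ ∈ F.Hom Q, ψ.range = P ∧ (∀ (x : P) (hx : φ x ∈ Q), ψ ⟨φ x, hx⟩ = x) ∧
      (∀ (y : Q) (hy : ψ y ∈ P), φ ⟨ψ y, hy⟩ = y) := by
  subst hQ
  obtain ⟨ψ, hψ, hψe⟩ := F.inv_mem h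
  refine ⟨ψ, hψ, ?_, fun x _ => hψe x, ?_⟩
  · ext z
    constructor
    · rintro ⟨⟨_, x, rfl⟩, rfl⟩
      rw [hψe x]
      exact x.2
    · intro hz
      exact ⟨⟨φ ⟨z, hz⟩, ⟨_, rfl⟩⟩, hψe ⟨z, hz⟩⟩
  · rintro ⟨_, x, rfl⟩ hy
    have : (⟨ψ ⟨φ x, ⟨x, rfl⟩⟩, hy⟩ : P) = x := Subtype.ext (hψe x)
    rw [this]

/-- The isomorphism onto the image of an injective homomorphism with given range. -/
noncomputable def isoOf {P Q : Subgroup Ω} (φ : P →* Ω) (hφ : Function.Injective φ)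
    (hQ : φ.range = Q) : P ≃* Q :=
  (MonoidHom.ofInjective hφ).trans (MulEquiv.subgroupCongr hQ)

@[simp] theorem coe_isoOf {P Q : Subgroup Ω} (φ : P →* Ω) (hφ : Function.Injective φ)
    (hQ : φ.range = Q) (x : P) : ((isoOf φ hφ hQ x : Q) : Ω) = φ x := rfl

theorem isoOf_symm_apply {P Q : Subgroup Ω} (φ : P →* Ω) (hφ : Function.Injective φ)
    (hQ : φ.range = Q) (y : Q) : φ ((isoOf φ hφ hQ).symm y) = y := by
  have h2 := congrArg (Subtype.val) ((isoOf φ hφ hQ).apply_symm_apply y)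
  exact h2

/-! ### Conjugacy of subgroups -/

theorem isConj_refl (F : FusionSystem S) {P : Subgroup Ω} (hP : P ≤ S) : F.IsConj P P :=
  ⟨P.subtype, subtype_mem F hP, Subgroup.range_subtype P⟩

theorem isConj_symm {F : FusionSystem S} {P Q : Subgroup Ω} (h : F.IsConj P Q) : F.IsConj Q P := by
  obtain ⟨φ, hφ, hr⟩ := h
  obtain ⟨ψ, hψ, hψr, -, -⟩ := exists_inv hφ hr
  exact ⟨ψ, hψ, hψr⟩

theorem isConj_trans {F : FusionSystem S} {P Q R : Subgroup Ω} (h : F.IsConj P Q)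
    (h' : F.IsConj Q R) : F.IsConj P R := by
  obtain ⟨φ, hφ, hr⟩ := h
  obtain ⟨ψ, hψ, hr'⟩ := h'
  subst hr hr'
  obtain ⟨χ, hχ, he⟩ := exists_comp hφ hψ (fun x => ⟨x, rfl⟩)
  refine ⟨χ, hχ, ?_⟩
  ext z
  constructor
  · rintro ⟨x, rfl⟩
    exact ⟨⟨φ x, ⟨x, rfl⟩⟩, (he x).symm⟩
  · rintro ⟨⟨_, x, rfl⟩, rfl⟩
    exact ⟨x, he x⟩

theorem isConj_le_left {F : FusionSystem S} {P Q : Subgroup Ω} (h : F.IsConj P Q) : P ≤ S := by
  obtain ⟨φ, hφ, -⟩ := h
  exact hom_le hφ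

theorem isConj_le_right {F : FusionSystem S} {P Q : Subgroup Ω} (h : F.IsConj P Q) : Q ≤ S := by
  obtain ⟨φ, hφ, rfl⟩ := h
  exact range_le_of_mem hφ

theorem isConj_card_eq {F : FusionSystem S} {P Q : Subgroup Ω} (h : F.IsConj P Q) :
    Nat.card P = Nat.card Q := by
  obtain ⟨φ, hφ, rfl⟩ := h
  exact Nat.card_congr (MonoidHom.ofInjective (F.injective_of_mem hφ)).toEquiv

theorem isConj_range {F : FusionSystem S} {P : Subgroup Ω} {φ : P →* Ω} (h : φ ∈ F.Hom P) :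
    F.IsConj P φ.range := ⟨φ, h, rfl⟩

/-! ### Automorphism groups -/

/-- `Aut_F(P)` is exactly the set of automorphisms that are maps of the system. -/
theorem mem_autGroup_iff (F : FusionSystem S) {P : Subgroup Ω} (hP : P ≤ S) (α : MulAut P) :
    α ∈ F.autGroup P ↔ P.subtype.comp α.toMonoidHom ∈ F.Hom P := by
  refine ⟨fun h => ?_, fun h => Subgroup.subset_closure h⟩
  refine Subgroup.closure_induction (p := fun α _ => P.subtype.comp α.toMonoidHom ∈ F.Hom P)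
    (fun x hx => hx) ?_ ?_ ?_ h
  · exact mem_of_apply_eq (subtype_mem F hP) (fun x => rfl)
  · intro a b _ _ ha hb
    refine mem_of_apply_eq (F.comp_mem hb ha (fun x => (b x).2)) (fun x => rfl)
  · intro a _ ha
    have hr : (P.subtype.comp a.toMonoidHom).range = P := by
      ext z
      constructor
      · rintro ⟨x, rfl⟩
        exact (a x).2
      · intro hz
        refine ⟨a.symm ⟨z, hz⟩, ?_⟩
        show ((a (a.symm ⟨z, hz⟩) : P) : Ω) = z
        rw [MulEquiv.apply_symm_apply]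
    obtain ⟨ψ, hψ, -, h1, -⟩ := exists_inv ha hr
    refine mem_of_apply_eq hψ (fun x => ?_)
    have := h1 (a⁻¹ x) (a _).2
    have h3 : a (a⁻¹ x) = x := a.apply_symm_apply x
    have h4 : (⟨(P.subtype.comp a.toMonoidHom) (a⁻¹ x), (a (a⁻¹ x)).2⟩ : P) = x :=
      Subtype.ext (congrArg Subtype.val h3)
    rw [h4] at this
    exact this.symm

/-- An element of `Aut_F(P)` gives a map of the system on any subgroup of `P`. -/
theorem aut_restrict_mem {F : FusionSystem S} {P R : Subgroup Ω} (hP : P ≤ S) {α : MulAut P}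
    (h : α ∈ F.autGroup P) (hR : R ≤ P) {ψ : R →* Ω}
    (he : ∀ (x : Ω) (hx : x ∈ R), ψ ⟨x, hx⟩ = (α ⟨x, hR hx⟩ : P)) : ψ ∈ F.Hom R :=
  mem_of_agree ((mem_autGroup_iff F hP α).1 h) hR he

/-- A map of the system with source `P` and image `P` gives an element of `Aut_F(P)`. -/
theorem exists_aut {F : FusionSystem S} {P : Subgroup Ω} {φ : P →* Ω} (h : φ ∈ F.Hom P)
    (hr : φ.range = P) : ∃ α ∈ F.autGroup P, ∀ x : P, ((α x : P) : Ω) = φ x :=
  ⟨isoOf φ (F.injective_of_mem h) hr, (mem_autGroup_iff F (hom_le h) _).2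
    (mem_of_apply_eq h fun _ => rfl), fun _ => rfl⟩

/-- For a finite source, a map with values in its source is onto. -/
theorem range_eq_of_mapsTo {F : FusionSystem S} {P : Subgroup Ω} [Finite P] {φ : P →* Ω}
    (h : φ ∈ F.Hom P) (hr : ∀ x : P, φ x ∈ P) : φ.range = P := by
  have hle : φ.range ≤ P := by
    rintro _ ⟨x, rfl⟩
    exact hr x
  have hc : Nat.card φ.range = Nat.card P := (isConj_card_eq (isConj_range h)).symm
  exact Subgroup.eq_of_le_of_card_ge hle hc.ge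

theorem finite_of_le [Finite S] {P : Subgroup Ω} (hP : P ≤ S) : Finite P :=
  Finite.of_injective (Subgroup.inclusion hP) (Subgroup.inclusion_injective hP)

/-- The automorphisms of `P` induced by `K`. -/
theorem mem_autInducedBy_iff (K P : Subgroup Ω) (α : MulAut P) :
    α ∈ autInducedBy K P ↔ ∃ g ∈ K, ∀ x : P, ((α x : P) : Ω) = g * (x : Ω) * g⁻¹ := by
  refine ⟨fun h => ?_, fun h => Subgroup.subset_closure h⟩
  refine Subgroup.closure_induction
    (p := fun (α : MulAut P) _ => ∃ g ∈ K, ∀ x : P, ((α x : P) : Ω) = g * (x : Ω) * g⁻¹)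
    (fun x hx => hx) ?_ ?_ ?_ h
  · exact ⟨1, K.one_mem, fun x => by simp⟩
  · rintro a b _ _ ⟨g, hg, hga⟩ ⟨k, hk, hkb⟩
    refine ⟨g * k, K.mul_mem hg hk, fun x => ?_⟩
    rw [MulAut.mul_apply, hga, hkb]
    group
  · rintro a _ ⟨g, hg, hga⟩
    refine ⟨g⁻¹, K.inv_mem hg, fun x => ?_⟩
    have h1 := hga (a⁻¹ x)
    have h3 : a (a⁻¹ x) = x := a.apply_symm_apply x
    rw [h3] at h1
    rw [h1]
    group

/-- An element inducing an automorphism of `P` normalizes `P`. -/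
theorem mem_normalizer_of_aut {P : Subgroup Ω} {α : MulAut P} {g : Ω}
    (h : ∀ x : P, ((α x : P) : Ω) = g * (x : Ω) * g⁻¹) :
    g ∈ Subgroup.normalizer (P : Set Ω) := by
  rw [Subgroup.mem_normalizer_iff]
  intro x
  constructor
  · intro hx
    have := h ⟨x, hx⟩
    rw [← this]
    exact (α _).2
  · intro hx
    have h1 := h (α.symm ⟨_, hx⟩)
    rw [MulEquiv.apply_symm_apply] at h1
    have h2 : x = ((α.symm ⟨_, hx⟩ : P) : Ω) := by
      have h3 : g * x * g⁻¹ = g * ((α.symm ⟨_, hx⟩ : P) : Ω) * g⁻¹ := h1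
      exact mul_left_cancel (mul_right_cancel h3)
    rw [h2]
    exact (α.symm _).2

/-- The automorphism of `P` given by conjugation by an element normalizing `P`. -/
theorem exists_conjAut {P : Subgroup Ω} {g : Ω} (hg : g ∈ Subgroup.normalizer (P : Set Ω)) :
    ∃ α : MulAut P, ∀ x : P, ((α x : P) : Ω) = g * (x : Ω) * g⁻¹ := by
  have h1 : ∀ x ∈ P, g * x * g⁻¹ ∈ P := fun x hx => (Subgroup.mem_normalizer_iff.1 hg x).1 hx
  have h2 : ∀ x ∈ P, g⁻¹ * x * g ∈ P := fun x hx => by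
    have := (Subgroup.mem_normalizer_iff.1 ((Subgroup.normalizer (P : Set Ω)).inv_mem hg) x).1 hx
    simpa using this
  refine ⟨{ toFun := fun x => ⟨g * x * g⁻¹, h1 x x.2⟩
            invFun := fun x => ⟨g⁻¹ * x * g, h2 x x.2⟩
            left_inv := fun x => Subtype.ext (by simp [mul_assoc])
            right_inv := fun x => Subtype.ext (by simp [mul_assoc])
            map_mul' := fun x y => Subtype.ext (by simp [mul_assoc]) }, fun x => rfl⟩

theorem autInducedBy_le_autGroup (F : FusionSystem S) {P : Subgroup Ω} (hP : P ≤ S) :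
    autInducedBy S P ≤ F.autGroup P := by
  intro α hα
  obtain ⟨g, hg, h⟩ := (mem_autInducedBy_iff S P α).1 hα
  rw [mem_autGroup_iff F hP]
  exact mem_of_apply_eq (F.conj_mem hP hg) h

theorem isPGroup_autInducedBy {p : ℕ} {K : Subgroup Ω} (hK : IsPGroup p K) (P : Subgroup Ω) :
    IsPGroup p (autInducedBy K P) := by
  rintro ⟨α, hα⟩
  obtain ⟨g, hg, h⟩ := (mem_autInducedBy_iff K P α).1 hα
  obtain ⟨k, hk⟩ := hK ⟨g, hg⟩
  have hk' : g ^ p ^ k = 1 := by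
    have := congrArg Subtype.val hk
    simpa using this
  refine ⟨k, ?_⟩
  have hpow : ∀ (n : ℕ) (x : P), (((α ^ n) x : P) : Ω) = g ^ n * (x : Ω) * (g ^ n)⁻¹ := by
    intro n
    induction n with
    | zero => intro x; simp
    | succ n ih =>
      intro x
      rw [pow_succ, MulAut.mul_apply, ih, h, pow_succ]
      group
  apply Subtype.ext
  show α ^ p ^ k = 1
  apply MulEquiv.ext
  intro x
  apply Subtype.ext
  rw [hpow, hk']
  simp

/-! ### Extenders -/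

theorem mem_extender_iff (S P : Subgroup Ω) (φ : P →* Ω) (g : Ω) :
    g ∈ extender S P φ ↔ g ∈ S ∧ g ∈ Subgroup.normalizer (P : Set Ω) ∧
      ∃ h ∈ S, ∀ (x : P) (hx : g * (x : Ω) * g⁻¹ ∈ P), φ ⟨g * x * g⁻¹, hx⟩ = h * φ x * h⁻¹ := by
  refine ⟨fun h => ?_, fun h => Subgroup.subset_closure h⟩
  refine Subgroup.closure_induction
    (p := fun (g : Ω) _ => g ∈ S ∧ g ∈ Subgroup.normalizer (P : Set Ω) ∧
      ∃ h ∈ S, ∀ (x : P) (hx : g * (x : Ω) * g⁻¹ ∈ P), φ ⟨g * x * g⁻¹, hx⟩ = h * φ x * h⁻¹)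
    (fun x hx => hx) ?_ ?_ ?_ h
  · exact ⟨S.one_mem, Subgroup.one_mem _, 1, S.one_mem, fun x hx => by simp⟩
  · rintro a b _ _ ⟨ha, hna, k, hk, h1⟩ ⟨hb, hnb, l, hl, h2⟩
    refine ⟨S.mul_mem ha hb, Subgroup.mul_mem _ hna hnb, k * l, S.mul_mem hk hl, fun x hx => ?_⟩
    have hbx : b * (x : Ω) * b⁻¹ ∈ P := (Subgroup.mem_normalizer_iff.1 hnb x).1 x.2
    have e1 := h2 x hbx
    have habx : a * ((⟨_, hbx⟩ : P) : Ω) * a⁻¹ ∈ P :=
      (Subgroup.mem_normalizer_iff.1 hna _).1 hbx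
    have e2 := h1 ⟨_, hbx⟩ habx
    rw [e1] at e2
    have e3 : (⟨a * b * (x : Ω) * (a * b)⁻¹, hx⟩ : P) =
        ⟨a * ((⟨b * (x : Ω) * b⁻¹, hbx⟩ : P) : Ω) * a⁻¹, habx⟩ := by
      apply Subtype.ext
      show a * b * (x : Ω) * (a * b)⁻¹ = a * (b * (x : Ω) * b⁻¹) * a⁻¹
      group
    rw [e3, e2]
    group
  · rintro a _ ⟨ha, hna, k, hk, h1⟩
    refine ⟨S.inv_mem ha, Subgroup.inv_mem _ hna, k⁻¹, S.inv_mem hk, fun x hx => ?_⟩
    have hx2 : a * ((⟨_, hx⟩ : P) : Ω) * a⁻¹ ∈ P := (Subgroup.mem_normalizer_iff.1 hna _).1 hx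
    have e1 := h1 ⟨_, hx⟩ hx2
    have e3 : (⟨a * ((⟨a⁻¹ * (x : Ω) * a⁻¹⁻¹, hx⟩ : P) : Ω) * a⁻¹, hx2⟩ : P) = x := by
      apply Subtype.ext
      show a * (a⁻¹ * (x : Ω) * a⁻¹⁻¹) * a⁻¹ = x
      group
    rw [e3] at e1
    rw [e1]
    group

theorem extender_le (S P : Subgroup Ω) (φ : P →* Ω) : extender S P φ ≤ S :=
  fun _ hg => ((mem_extender_iff S P φ _).1 hg).1

theorem extender_le_normalizer (S P : Subgroup Ω) (φ : P →* Ω) :
    extender S P φ ≤ Subgroup.normalizer (P : Set Ω) :=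
  fun _ hg => ((mem_extender_iff S P φ _).1 hg).2.1

theorem extender_le_normalizerIn (S P : Subgroup Ω) (φ : P →* Ω) :
    extender S P φ ≤ normalizerIn S P :=
  fun _ hg => ⟨extender_le S P φ hg, extender_le_normalizer S P φ hg⟩

/-- `P ≤ N_φ` when `P ≤ S` and `φ` has values in `S`. -/
theorem le_extender {P : Subgroup Ω} (hP : P ≤ S) {φ : P →* Ω} (hφ : ∀ x : P, φ x ∈ S) :
    P ≤ extender S P φ := by
  intro g hg
  rw [mem_extender_iff]
  refine ⟨hP hg, Subgroup.le_normalizer hg, φ ⟨g, hg⟩, hφ _, fun x hx => ?_⟩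
  have : (⟨g * (x : Ω) * g⁻¹, hx⟩ : P) = ⟨g, hg⟩ * x * ⟨g, hg⟩⁻¹ := Subtype.ext rfl
  rw [this, map_mul, map_mul, map_inv]

/-- `C_S(P) ≤ N_φ`. -/
theorem centralizerIn_le_extender (S P : Subgroup Ω) (φ : P →* Ω) :
    centralizerIn S P ≤ extender S P φ := by
  intro g hg
  have hgc : ∀ x ∈ P, g * x * g⁻¹ = x := by
    intro x hx
    have := Subgroup.mem_centralizer_iff.1 hg.2 x hx
    rw [← this]
    group
  rw [mem_extender_iff]
  refine ⟨hg.1, Subgroup.centralizer_le_normalizer _ hg.2, 1, S.one_mem, fun x hx => ?_⟩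
  have : (⟨g * (x : Ω) * g⁻¹, hx⟩ : P) = x := Subtype.ext (hgc x x.2)
  rw [this]
  simp

/-- If `φ` extends to `ψ` on a subgroup `R` of `S` normalizing `P` (with values in `S`), then `R ≤ N_φ`. -/
theorem le_extender_of_extends {P R : Subgroup Ω} {φ : P →* Ω} {ψ : R →* Ω}
    (hPR : P ≤ R) (hRS : R ≤ S) (hRN : R ≤ Subgroup.normalizer (P : Set Ω)) (hψ : ∀ x : R, ψ x ∈ S)
    (he : ∀ (x : Ω) (hx : x ∈ P), ψ ⟨x, hPR hx⟩ = φ ⟨x, hx⟩) : R ≤ extender S P φ := by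
  intro g hg
  rw [mem_extender_iff]
  refine ⟨hRS hg, hRN hg, ψ ⟨g, hg⟩, hψ _, fun x hx => ?_⟩
  rw [← he _ hx, ← he x x.2]
  have : (⟨g * (x : Ω) * g⁻¹, hPR hx⟩ : R) = ⟨g, hg⟩ * ⟨x, hPR x.2⟩ * ⟨g, hg⟩⁻¹ := Subtype.ext rfl
  rw [this, map_mul, map_mul, map_inv]

end Cfsg.Agent.H802
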