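import Cfsg.Agent.H802.FusGroup

/-!
# Normal subgroups give normal subsystems (helper802)
-/

set_option autoImplicit false

namespace Cfsg.Agent.H802

open Cfsg Cfsg.FusionSystem

variable {Ω : Type*} [Group Ω] {H N S : Subgroup Ω} {p : ℕ}

theorem mem_normalizer_of_conj_mem [Finite H] {T : Subgroup Ω} (hTH : T ≤ H) {g : Ω}
    (h : ∀ x ∈ T, g * x * g⁻¹ ∈ T) : g ∈ Subgroup.normalizer (T : Set Ω) := by
  have hfin : Finite T := finite_of_le hTH
  have hle : T.map (MulAut.conj g).toMonoidHom ≤ T := by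
    rintro _ ⟨z, hz, rfl⟩
    exact h z hz
  have heq : T.map (MulAut.conj g).toMonoidHom = T :=
    Subgroup.eq_of_le_of_card_ge hle (card_map_conj g T).ge
  refine Subgroup.mem_normalizer_iff.2 fun z => ⟨h z, fun hz => ?_⟩
  rw [← heq] at hz
  obtain ⟨w, hw, hwe⟩ := hz
  have hwe' : g * w * g⁻¹ = g * z * g⁻¹ := hwe
  have hwz : w = z := mul_left_cancel (mul_right_cancel hwe')
  rw [← hwz]
  exact hw

/-- **A normal subgroup `N` of `H` gives a normal subsystem `F_{S ∩ N}(N)` of `F_S(H)`**, for `S` a Sylow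
`p`-subgroup of `H`. -/
theorem fs_isNormalIn [Fact p.Prime] [Finite H] (hS : SylIn p S H) (hNH : N ≤ H)
    (hN : ∀ h ∈ H, ∀ n ∈ N, h * n * h⁻¹ ∈ N) :
    (fusionSystemOfSubgroup N (S ⊓ N) inf_le_right).IsNormalIn
      (fusionSystemOfSubgroup H S hS.le) p := by
  have hfinN : Finite N := finite_of_le hNH
  have hT : SylIn p (S ⊓ N) N := hS.inf_normal hNH hN
  set T := S ⊓ N with hTdef
  have hTS : T ≤ S := inf_le_left
  have hTN : T ≤ N := inf_le_right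
  have hTH : T ≤ H := hTN.trans hNH
  have hfinT : Finite T := finite_of_le hTH
  have hsc : (fusionSystemOfSubgroup H S hS.le).StronglyClosed T := by
    refine ⟨hTS, ?_⟩
    rintro R hR φ ⟨-, hφS, g, hg, h⟩ x
    refine ⟨hφS x, ?_⟩
    rw [h]
    exact hN g hg x (hTN (hR x.2))
  have hSN : ∀ s ∈ S, ∀ t ∈ T, s * t * s⁻¹ ∈ T := fun s hs t ht =>
    ⟨S.mul_mem (S.mul_mem hs (hTS ht)) (S.inv_mem hs), hN s (hS.le hs) t (hTN ht)⟩
  refine ⟨⟨fs_isSaturated hT, fs_isSaturated hS, ?_, hsc, ?_, ?_⟩, ?_⟩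
  · rintro P φ ⟨hP, hφ, g, hg, h⟩
    exact ⟨hP.trans hTS, fun x => hTS (hφ x), g, hNH hg, h⟩
  · rintro P hPT φ ⟨-, hφ, n, hn, h⟩ α hα
    rw [fs_autGroup hS.le hTS, mem_autInducedBy_iff] at hα
    obtain ⟨g, hg, hαe⟩ := hα
    refine ⟨conjHom _ (g * n * g⁻¹), ⟨?_, ?_, g * n * g⁻¹, hN g hg n hn, fun x => rfl⟩, ?_⟩
    · rintro _ ⟨x, -, rfl⟩
      exact (α x).2
    · rintro ⟨_, x, hx, rfl⟩
      have h1 : (T.subtype.comp α.toMonoidHom) x = g * x * g⁻¹ := hαe x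
      show g * n * g⁻¹ * (T.subtype.comp α.toMonoidHom) x * (g * n * g⁻¹)⁻¹ ∈ T
      rw [h1]
      have h2 : g * n * g⁻¹ * (g * x * g⁻¹) * (g * n * g⁻¹)⁻¹ = g * (n * x * n⁻¹) * g⁻¹ := by
        group
      have h3 : n * (x : Ω) * n⁻¹ ∈ T := by
        have := hφ ⟨x, Subgroup.mem_subgroupOf.1 hx⟩
        rwa [h] at this
      rw [h2]
      have h4 := hαe ⟨n * (x : Ω) * n⁻¹, h3⟩
      have h5 : g * (n * (x : Ω) * n⁻¹) * g⁻¹ = (α ⟨n * (x : Ω) * n⁻¹, h3⟩ : T) := h4.symm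
      rw [h5]
      exact (α _).2
    · intro x hφx hαx
      show g * n * g⁻¹ * ((α ⟨x, hPT x.2⟩ : T) : Ω) * (g * n * g⁻¹)⁻¹ = _
      rw [hαe, hαe]
      show g * n * g⁻¹ * (g * x * g⁻¹) * (g * n * g⁻¹)⁻¹ = g * φ x * g⁻¹
      rw [h]
      group
  · rintro P hPT φ ⟨hPS, hφ, g, hg, h⟩
    -- Frattini: some `n ∈ N` with `n g T (n g)⁻¹ ≤ T`
    have hB : T.map (MulAut.conj g).toMonoidHom ≤ N := by
      rintro _ ⟨x, hx, rfl⟩
      exact hN g hg x (hTN hx)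
    obtain ⟨n, hn, hnT⟩ := hT.exists_conj hB (hT.isPGroup.map _)
    have hh : ∀ x ∈ T, (n * g) * x * (n * g)⁻¹ ∈ T := by
      intro x hx
      have h1 := hnT (g * x * g⁻¹) ⟨x, hx, rfl⟩
      have h2 : n * g * x * (n * g)⁻¹ = n * (g * x * g⁻¹) * n⁻¹ := by group
      rw [h2]
      exact h1
    have hhN := mem_normalizer_of_conj_mem hTH hh
    obtain ⟨α, hα⟩ := exists_conjAut hhN
    have hngH : n * g ∈ H := H.mul_mem (hNH hn) hg
    refine ⟨α, ?_, ?_⟩
    · rw [fs_autGroup hS.le hTS, mem_autInducedBy_iff]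
      exact ⟨n * g, hngH, hα⟩
    · -- φ₀ = conjugation by (n g)⁻¹ n⁻¹ (n g) = g⁻¹ n⁻¹ g
      have hn' : (n * g)⁻¹ * g ∈ N := by
        have h1 := hN g⁻¹ (H.inv_mem hg) n⁻¹ (N.inv_mem hn)
        have h2 : g⁻¹ * n⁻¹ * g⁻¹⁻¹ = (n * g)⁻¹ * g := by group
        rwa [h2] at h1
      have hφT : ∀ x : P, φ x ∈ T := fun x => hsc.2 P hPT φ ⟨hPS, hφ, g, hg, h⟩ x
      refine ⟨conjHom P ((n * g)⁻¹ * g), ⟨hPT, fun x => ?_, _, hn', fun x => rfl⟩, ?_⟩
      · show (n * g)⁻¹ * g * (x : Ω) * ((n * g)⁻¹ * g)⁻¹ ∈ T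
        have h1 : (n * g)⁻¹ * g * (x : Ω) * ((n * g)⁻¹ * g)⁻¹ =
            (n * g)⁻¹ * φ x * (n * g)⁻¹⁻¹ := by
          rw [h]
          group
        rw [h1]
        exact (Subgroup.mem_normalizer_iff.1
          ((Subgroup.normalizer (T : Set Ω)).inv_mem hhN) _).1 (hφT x)
      · intro x hx
        rw [hα, h]
        show g * (x : Ω) * g⁻¹ = n * g * ((n * g)⁻¹ * g * (x : Ω) * ((n * g)⁻¹ * g)⁻¹) * (n * g)⁻¹
        group
  · intro α hα
    rw [fs_autGroup hTN le_rfl, mem_autInducedBy_iff] at hα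
    obtain ⟨g, hg, hαe⟩ := hα
    have hgT : g ∈ Subgroup.normalizer (T : Set Ω) := mem_normalizer_of_aut hαe
    -- Y = S C_N(T)
    have hCnorm : ∀ s ∈ S, ∀ c ∈ centralizerIn N T, s * c * s⁻¹ ∈ centralizerIn N T := by
      intro s hs c hc
      refine ⟨hN s (hS.le hs) c hc.1, ?_⟩
      refine Subgroup.mem_centralizer_iff.2 fun z hz => ?_
      have hz' : s⁻¹ * z * s ∈ T := by
        have := hSN s⁻¹ (S.inv_mem hs) z hz
        simpa using this
      have h1 := Subgroup.mem_centralizer_iff.1 hc.2 _ hz'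
      calc z * (s * c * s⁻¹) = s * ((s⁻¹ * z * s) * c) * s⁻¹ := by group
        _ = s * (c * (s⁻¹ * z * s)) * s⁻¹ := by rw [h1]
        _ = s * c * s⁻¹ * z := by group
    let Y : Subgroup Ω :=
      { carrier := {k | ∃ t ∈ S, t⁻¹ * k ∈ centralizerIn N T}
        one_mem' := ⟨1, Subgroup.one_mem _, by simp⟩
        mul_mem' := by
          rintro a b ⟨t, ht, hta⟩ ⟨s, hs, hsb⟩
          refine ⟨t * s, Subgroup.mul_mem _ ht hs, ?_⟩
          have h1 := hCnorm s⁻¹ (S.inv_mem hs) _ hta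
          have h2 : (t * s)⁻¹ * (a * b) = (s⁻¹ * (t⁻¹ * a) * s⁻¹⁻¹) * (s⁻¹ * b) := by group
          rw [h2]
          exact Subgroup.mul_mem _ h1 hsb
        inv_mem' := by
          rintro a ⟨t, ht, hta⟩
          refine ⟨t⁻¹, Subgroup.inv_mem _ ht, ?_⟩
          have h1 := hCnorm t ht _ (Subgroup.inv_mem _ hta)
          have h2 : (t⁻¹)⁻¹ * a⁻¹ = t * (t⁻¹ * a)⁻¹ * t⁻¹ := by group
          rw [h2]
          exact h1 }
    have hYH : Y ≤ H := by
      rintro k ⟨t, ht, htk⟩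
      have h1 : k = t * (t⁻¹ * k) := by group
      rw [h1]
      exact H.mul_mem (hS.le ht) (hNH htk.1)
    have hSY : S ≤ Y := fun t ht => ⟨t, ht, by simp⟩
    have hsyl : SylIn p S Y := hS.mono hSY hYH
    have hfinY : Finite Y := finite_of_le hYH
    -- g c g⁻¹ centralizes T for c ∈ C_S(T)
    have hgc : ∀ (k : Ω), k ∈ Subgroup.normalizer (T : Set Ω) → ∀ c ∈ centralizerIn S T,
        k * c * k⁻¹ ∈ Subgroup.centralizer (T : Set Ω) := by
      intro k hk c hc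
      refine Subgroup.mem_centralizer_iff.2 fun z hz => ?_
      have hz' : k⁻¹ * z * k ∈ T := by
        have := (Subgroup.mem_normalizer_iff.1
          ((Subgroup.normalizer (T : Set Ω)).inv_mem hk) z).1 hz
        simpa using this
      have h1 := Subgroup.mem_centralizer_iff.1 hc.2 _ hz'
      calc z * (k * c * k⁻¹) = k * ((k⁻¹ * z * k) * c) * k⁻¹ := by group
        _ = k * (c * (k⁻¹ * z * k)) * k⁻¹ := by rw [h1]
        _ = k * c * k⁻¹ * z := by group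
    have hcomm : ∀ (k : Ω), k ∈ N → ∀ c ∈ centralizerIn S T, c⁻¹ * (k * c * k⁻¹) ∈ N := by
      intro k hk c hc
      have h1 := hN c⁻¹ (H.inv_mem (hS.le hc.1)) k hk
      have h2 : c⁻¹ * (k * c * k⁻¹) = (c⁻¹ * k * c⁻¹⁻¹) * k⁻¹ := by group
      rw [h2]
      exact N.mul_mem h1 (N.inv_mem hk)
    have hBY : (centralizerIn S T).map (MulAut.conj g).toMonoidHom ≤ Y := by
      rintro _ ⟨c, hc, rfl⟩
      refine ⟨c, hc.1, hcomm g hg c hc, ?_⟩
      exact Subgroup.mul_mem _ (Subgroup.inv_mem _ hc.2) (hgc g hgT c hc)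
    obtain ⟨y, ⟨s, hs, hsy⟩, hy⟩ := hsyl.exists_conj hBY
      ((hS.isPGroup.to_le inf_le_left).map _)
    set d := s⁻¹ * y with hd
    have hdT : d ∈ Subgroup.normalizer (T : Set Ω) := Subgroup.centralizer_le_normalizer _ hsy.2
    have hdgT : d * g ∈ Subgroup.normalizer (T : Set Ω) := Subgroup.mul_mem _ hdT hgT
    have hdgN : d * g ∈ N := N.mul_mem hsy.1 hg
    have hdgS : ∀ c ∈ centralizerIn S T, (d * g) * c * (d * g)⁻¹ ∈ S := by
      intro c hc
      have h1 := hy (g * c * g⁻¹) ⟨c, hc, rfl⟩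
      have h2 : (d * g) * c * (d * g)⁻¹ = s⁻¹ * (y * (g * c * g⁻¹) * y⁻¹) * s := by
        rw [hd]
        group
      rw [h2]
      exact S.mul_mem (S.mul_mem (S.inv_mem hs) h1) hs
    -- d g acts on T as g
    have hdact : ∀ x ∈ T, (d * g) * x * (d * g)⁻¹ = g * x * g⁻¹ := by
      intro x hx
      have h1 : g * x * g⁻¹ ∈ T := (Subgroup.mem_normalizer_iff.1 hgT x).1 hx
      have h2 := Subgroup.mem_centralizer_iff.1 hsy.2 _ h1
      calc (d * g) * x * (d * g)⁻¹ = d * (g * x * g⁻¹) * d⁻¹ := by group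
        _ = (g * x * g⁻¹) * d * d⁻¹ := by rw [h2]
        _ = g * x * g⁻¹ := by group
    have hXS : T ⊔ centralizerIn S T ≤ S := sup_le hTS inf_le_left
    have hXH : T ⊔ centralizerIn S T ≤ H := hXS.trans hS.le
    have hXnorm : d * g ∈ Subgroup.normalizer ((T ⊔ centralizerIn S T : Subgroup Ω) : Set Ω) := by
      refine mem_normalizer_of_conj_mem hXH fun x hx => ?_
      have h1 : (T ⊔ centralizerIn S T).map (MulAut.conj (d * g)).toMonoidHom ≤
          T ⊔ centralizerIn S T := by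
        rw [Subgroup.map_sup]
        refine sup_le_sup ?_ ?_
        · rintro _ ⟨z, hz, rfl⟩
          exact (Subgroup.mem_normalizer_iff.1 hdgT z).1 hz
        · rintro _ ⟨c, hc, rfl⟩
          exact ⟨hdgS c hc, hgc _ hdgT c hc⟩
      exact h1 ⟨x, hx, rfl⟩
    obtain ⟨β, hβ⟩ := exists_conjAut hXnorm
    refine ⟨β, ?_, ?_, ?_⟩
    · rw [fs_autGroup hS.le hXS, mem_autInducedBy_iff]
      exact ⟨d * g, hNH hdgN, hβ⟩
    · intro x
      rw [hβ, hαe]
      exact hdact x x.2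
    · intro c hc
      rw [hβ]
      refine ⟨⟨S.mul_mem (S.inv_mem hc.1) (hdgS c hc), hcomm _ hdgN c hc⟩, ?_⟩
      exact Subgroup.mul_mem _ (Subgroup.inv_mem _ hc.2) (hgc _ hdgT c hc)

/-- A normal subgroup `N` of the finite group `G` gives a normal subsystem of its fusion system. -/
theorem groupFusionSystem_isNormalIn [Fact p.Prime] [Finite Ω] (S : Sylow p Ω) (N : Subgroup Ω)
    [N.Normal] :
    (fusionSystemOfSubgroup N ((S : Subgroup Ω) ⊓ N) inf_le_right).IsNormalIn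
      (groupFusionSystem (S : Subgroup Ω)) p := by
  rw [groupFusionSystem_eq]
  exact fs_isNormalIn (sylIn_top_of_sylow S) le_top
    (fun h _ n hn => Subgroup.Normal.conj_mem ‹_› n hn h)

end Cfsg.Agent.H802
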