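import Cfsg.Agent.H802.FusGroup

/-!
# Fusion systems over abelian p-groups (helper802)
-/

set_option autoImplicit false

namespace Cfsg.Agent.H802

open Cfsg Cfsg.FusionSystem

variable {Ω : Type*} [Group Ω] {S : Subgroup Ω} {p : ℕ}

/-- Over an abelian `S`, every subgroup of `S` is receptive. -/
theorem isReceptive_of_abelian [Fact p.Prime] [Finite S] (hS : IsPGroup p S)
    {F : FusionSystem S} (hF : F.IsSaturated p) (hab : ∀ x ∈ S, ∀ y ∈ S, x * y = y * x)
    {Q : Subgroup Ω} (hQ : Q ≤ S) : F.IsReceptive Q := by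
  have hC : ∀ R : Subgroup Ω, R ≤ S → centralizerIn S R = S := fun R hR =>
    le_antisymm inf_le_left (le_inf le_rfl fun s hs =>
      Subgroup.mem_centralizer_iff.2 fun r hr => hab r (hR hr) s hs)
  refine isReceptive_of_isFullyCentralized hS hF ⟨hQ, fun R hR => ?_⟩
  rw [hC Q hQ, hC R (isConj_le_right hR)]

/-- Burnside: over an abelian `S`, every map of a saturated system is the restriction of an element of
`Aut_F(S)`. -/
theorem exists_aut_extension_of_abelian [Fact p.Prime] [Finite S] (hS : IsPGroup p S)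
    {F : FusionSystem S} (hF : F.IsSaturated p) (hab : ∀ x ∈ S, ∀ y ∈ S, x * y = y * x)
    {P : Subgroup Ω} {φ : P →* Ω} (hφ : φ ∈ F.Hom P) :
    ∃ α ∈ F.autGroup S, ∀ x : P, φ x = (α ⟨x, hom_le hφ x.2⟩ : S) := by
  obtain ⟨-, h⟩ := isReceptive_of_abelian hS hF hab (range_le_of_mem hφ)
  obtain ⟨ψ, hψ, hψe⟩ := h P φ hφ rfl
  have hPS := hom_le hφ
  have hE : S ≤ extender S P φ := by
    refine le_trans (le_inf le_rfl fun s hs => ?_) (centralizerIn_le_extender S P φ)
    exact Subgroup.mem_centralizer_iff.2 fun r hr => hab r (hPS hr) s hs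
  have hψS := restrict_mem hψ hE
  obtain ⟨α, hα, hαe⟩ := exists_aut hψS (range_eq_of_mapsTo hψS (hom_apply_mem hψS))
  refine ⟨α, hα, fun x => ?_⟩
  rw [hαe]
  exact (hψe x x.2 _).symm

theorem autGroup_inner_eq_bot (T : Subgroup Ω) (hab : ∀ x ∈ T, ∀ y ∈ T, x * y = y * x)
    {P : Subgroup Ω} (hP : P ≤ T) : (innerFusionSystem T).autGroup P = ⊥ := by
  rw [eq_bot_iff]
  intro α hα
  obtain ⟨-, g, hg, h⟩ := (mem_autGroup_iff _ hP α).1 hα
  rw [Subgroup.mem_bot]
  apply MulEquiv.ext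
  intro x
  apply Subtype.ext
  have h1 : ((α x : P) : Ω) = g * x * g⁻¹ := h x
  rw [h1, hab g hg x (hP x.2), mul_inv_cancel_right]
  rfl

/-- For abelian `T`, strongly closed in `F` and such that every map of `F` with source in `T` is a restriction
of an element of `Aut_F(T)`, the inner system of `T` is normal in `F`. -/
theorem inner_isNormalIn_of_abelian [Fact p.Prime] {T : Subgroup Ω} [Finite T]
    {F : FusionSystem S} (hF : F.IsSaturated p) (hTp : IsPGroup p T)
    (hab : ∀ x ∈ T, ∀ y ∈ T, x * y = y * x) (hT : F.StronglyClosed T)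
    (hext : ∀ P : Subgroup Ω, ∀ (hPT : P ≤ T), ∀ φ ∈ F.Hom P, ∃ α ∈ F.autGroup T,
      ∀ x : P, φ x = (α ⟨x, hPT x.2⟩ : T)) :
    (innerFusionSystem T).IsNormalIn F p := by
  have hTS : T ≤ S := hT.1
  have hinner : ∀ {P : Subgroup Ω} {φ : P →* Ω}, φ ∈ (innerFusionSystem T).Hom P →
      ∀ x : P, φ x = x := by
    rintro P φ ⟨hP, g, hg, h⟩ x
    rw [h, hab g hg x (hP x.2), mul_inv_cancel_right]
  refine ⟨⟨innerFusionSystem_isSaturated hTp, hF, ?_, hT, ?_, ?_⟩, ?_⟩
  · intro P φ hφ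
    obtain ⟨hP, g, hg, h⟩ := hφ
    exact mem_of_apply_eq (F.conj_mem (hP.trans hTS) (hTS hg)) h
  · intro P hPT φ hφ α hα
    refine ⟨_, subtype_mem (innerFusionSystem T) ?_, ?_⟩
    · rintro _ ⟨x, -, rfl⟩
      exact (α x).2
    · intro x hφx hαx
      show ((α ⟨x, hPT x.2⟩ : T) : Ω) = _
      congr 2
      exact Subtype.ext (hinner hφ x).symm
  · intro P hPT φ hφ
    obtain ⟨α, hα, h⟩ := hext P hPT φ hφ
    exact ⟨α, hα, P.subtype, subtype_mem _ hPT, fun x hx => h x⟩
  · intro α hα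
    rw [autGroup_inner_eq_bot T hab le_rfl, Subgroup.mem_bot] at hα
    subst hα
    refine ⟨1, Subgroup.one_mem _, fun x => rfl, fun c hc => ?_⟩
    show (c : Ω)⁻¹ * (c : Ω) ∈ _
    rw [inv_mul_cancel]
    exact Subgroup.one_mem _

end Cfsg.Agent.H802
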