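import Cfsg.Agent.H802.FusSat

/-!
# `K`-normalizer systems `N_F^K(Q)` (helper802)

For `K ≤ Aut(Q)`: `kNorm S Q K = N_S^K(Q)` and the fusion system `kNormSystem F hQ K` over it. No finiteness.
-/

set_option autoImplicit false

namespace Cfsg.Agent.H802

open Cfsg Cfsg.FusionSystem

variable {Ω : Type*} [Group Ω] {S : Subgroup Ω}

/-- `N_S^K(Q)`: the elements of `S` inducing on `Q` an automorphism that belongs to `K`. -/
def kNorm (S Q : Subgroup Ω) (K : Subgroup (MulAut Q)) : Subgroup Ω where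
  carrier := {g | g ∈ S ∧ ∃ α ∈ K, ∀ x : Q, ((α x : Q) : Ω) = g * x * g⁻¹}
  one_mem' := ⟨S.one_mem, 1, K.one_mem, fun x => by simp⟩
  mul_mem' := by
    rintro a b ⟨ha, α, hα, hae⟩ ⟨hb, β, hβ, hbe⟩
    refine ⟨S.mul_mem ha hb, α * β, K.mul_mem hα hβ, fun x => ?_⟩
    rw [MulAut.mul_apply, hae, hbe]
    group
  inv_mem' := by
    rintro a ⟨ha, α, hα, hae⟩
    refine ⟨S.inv_mem ha, α⁻¹, K.inv_mem hα, fun x => ?_⟩
    have h1 := hae (α⁻¹ x)
    have h3 : α (α⁻¹ x) = x := α.apply_symm_apply x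
    rw [h3] at h1
    rw [h1]
    group

theorem mem_kNorm_iff {S Q : Subgroup Ω} {K : Subgroup (MulAut Q)} {g : Ω} :
    g ∈ kNorm S Q K ↔ g ∈ S ∧ ∃ α ∈ K, ∀ x : Q, ((α x : Q) : Ω) = g * x * g⁻¹ := Iff.rfl

theorem kNorm_le (S Q : Subgroup Ω) (K : Subgroup (MulAut Q)) : kNorm S Q K ≤ S :=
  fun _ hg => hg.1

theorem kNorm_le_normalizer (S Q : Subgroup Ω) (K : Subgroup (MulAut Q)) :
    kNorm S Q K ≤ Subgroup.normalizer (Q : Set Ω) := by
  rintro g ⟨-, α, -, h⟩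
  exact mem_normalizer_of_aut h

theorem kNorm_le_normalizerIn (S Q : Subgroup Ω) (K : Subgroup (MulAut Q)) :
    kNorm S Q K ≤ normalizerIn S Q := le_inf (kNorm_le S Q K) (kNorm_le_normalizer S Q K)

theorem kNorm_top (S Q : Subgroup Ω) : kNorm S Q ⊤ = normalizerIn S Q := by
  refine le_antisymm (kNorm_le_normalizerIn S Q ⊤) ?_
  rintro g ⟨hg, hgN⟩
  obtain ⟨α, hα⟩ := exists_conjAut hgN
  exact ⟨hg, α, Subgroup.mem_top _, hα⟩

theorem kNorm_bot (S Q : Subgroup Ω) : kNorm S Q ⊥ = centralizerIn S Q := by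
  ext g
  constructor
  · rintro ⟨hg, α, hα, h⟩
    rw [Subgroup.mem_bot] at hα
    subst hα
    refine ⟨hg, Subgroup.mem_centralizer_iff.2 fun x hx => ?_⟩
    have h1 : x = g * x * g⁻¹ := h ⟨x, hx⟩
    calc x * g = (g * x * g⁻¹) * g := by rw [← h1]
      _ = g * x := by group
  · rintro ⟨hg, hgC⟩
    refine ⟨hg, 1, Subgroup.one_mem _, fun x => ?_⟩
    rw [← Subgroup.mem_centralizer_iff.1 hgC x x.2]
    show (x : Ω) = x * g * g⁻¹
    group

theorem kNorm_mono (S Q : Subgroup Ω) {K K' : Subgroup (MulAut Q)} (h : K ≤ K') :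
    kNorm S Q K ≤ kNorm S Q K' := by
  rintro g ⟨hg, α, hα, he⟩
  exact ⟨hg, α, h hα, he⟩

theorem centralizerIn_le_kNorm (S Q : Subgroup Ω) (K : Subgroup (MulAut Q)) :
    centralizerIn S Q ≤ kNorm S Q K := by
  rw [← kNorm_bot]
  exact kNorm_mono S Q bot_le

/-! ### Homomorphisms on a join -/

theorem mem_of_sup {P Q : Subgroup Ω} {ψ : ↥(P ⊔ Q) →* Ω} {T : Subgroup Ω}
    (hP : ∀ x : P, ψ (Subgroup.inclusion le_sup_left x) ∈ T)
    (hQ : ∀ x : Q, ψ (Subgroup.inclusion le_sup_right x) ∈ T) (x : ↥(P ⊔ Q)) : ψ x ∈ T := by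
  have h1 : P ⊔ Q ≤ (T.comap ψ).map (P ⊔ Q).subtype := by
    refine sup_le ?_ ?_
    · intro y hy
      exact ⟨⟨y, le_sup_left (b := Q) hy⟩, hP ⟨y, hy⟩, rfl⟩
    · intro y hy
      exact ⟨⟨y, le_sup_right (a := P) hy⟩, hQ ⟨y, hy⟩, rfl⟩
  obtain ⟨y, hy, hyx⟩ := h1 x.2
  have : y = x := Subtype.ext hyx
  rw [← this]
  exact hy

theorem eq_of_sup {P Q : Subgroup Ω} {ψ ψ' : ↥(P ⊔ Q) →* Ω}
    (hP : ∀ x : P, ψ (Subgroup.inclusion le_sup_left x) = ψ' (Subgroup.inclusion le_sup_left x))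
    (hQ : ∀ x : Q, ψ (Subgroup.inclusion le_sup_right x) =
      ψ' (Subgroup.inclusion le_sup_right x)) : ψ = ψ' := by
  have h1 : P ⊔ Q ≤ (ψ.eqLocus ψ').map (P ⊔ Q).subtype := by
    refine sup_le ?_ ?_
    · intro y hy
      exact ⟨⟨y, le_sup_left (b := Q) hy⟩, hP ⟨y, hy⟩, rfl⟩
    · intro y hy
      exact ⟨⟨y, le_sup_right (a := P) hy⟩, hQ ⟨y, hy⟩, rfl⟩
  ext x
  obtain ⟨y, hy, hyx⟩ := h1 x.2
  have : y = x := Subtype.ext hyx
  rw [← this]
  exact hy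

theorem range_sup {P Q : Subgroup Ω} (ψ : ↥(P ⊔ Q) →* Ω) :
    ψ.range = (ψ.comp (Subgroup.inclusion le_sup_left)).range ⊔
      (ψ.comp (Subgroup.inclusion le_sup_right)).range := by
  apply le_antisymm
  · rintro _ ⟨x, rfl⟩
    refine mem_of_sup (ψ := ψ) (T := (ψ.comp (Subgroup.inclusion le_sup_left)).range ⊔
      (ψ.comp (Subgroup.inclusion le_sup_right)).range) (fun y => ?_) (fun y => ?_) x
    · exact Subgroup.mem_sup_left ⟨y, rfl⟩
    · exact Subgroup.mem_sup_right ⟨y, rfl⟩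
  · refine sup_le ?_ ?_
    · rintro _ ⟨x, rfl⟩
      exact ⟨_, rfl⟩
    · rintro _ ⟨x, rfl⟩
      exact ⟨_, rfl⟩

/-! ### The maps and the system -/

/-- The maps of `N_F^K(Q)` with source `P`. -/
def kNormHom (F : FusionSystem S) (Q : Subgroup Ω) (K : Subgroup (MulAut Q)) (P : Subgroup Ω) :
    Set (P →* Ω) :=
  {φ | P ≤ kNorm S Q K ∧ (∀ x : P, φ x ∈ kNorm S Q K) ∧
    ∃ ψ ∈ F.Hom (P ⊔ Q), (∀ x : P, ψ (Subgroup.inclusion le_sup_left x) = φ x) ∧
      ∃ α ∈ K, ∀ x : Q, ψ (Subgroup.inclusion le_sup_right x) = (α x : Q)}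

theorem mem_of_mem_kNormHom {F : FusionSystem S} {Q : Subgroup Ω} {K : Subgroup (MulAut Q)}
    {P : Subgroup Ω} {φ : P →* Ω} (h : φ ∈ kNormHom F Q K P) : φ ∈ F.Hom P := by
  obtain ⟨-, -, ψ, hψ, h1, -⟩ := h
  exact mem_of_agree hψ le_sup_left (fun x hx => (h1 ⟨x, hx⟩).symm)

/-- The `K`-normalizer system `N_F^K(Q)`. -/
def kNormSystem (F : FusionSystem S) {Q : Subgroup Ω} (hQ : Q ≤ S) (K : Subgroup (MulAut Q)) :
    FusionSystem (kNorm S Q K) where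
  Hom P := kNormHom F Q K P
  le_of_mem h := ⟨h.1, h.2.1⟩
  injective_of_mem h := F.injective_of_mem (mem_of_mem_kNormHom h)
  conj_mem := by
    rintro P g hP hg
    refine ⟨hP, fun x => Subgroup.mul_mem _ (Subgroup.mul_mem _ hg (hP x.2))
      (Subgroup.inv_mem _ hg), conjHom (P ⊔ Q) g,
      F.conj_mem (sup_le (hP.trans (kNorm_le S Q K)) hQ) hg.1, fun x => rfl, ?_⟩
    obtain ⟨-, α, hα, he⟩ := hg
    exact ⟨α, hα, fun x => (he x).symm⟩
  comp_mem := by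
    rintro P R φ χ ⟨hP, hφ, ψ, hψ, hψφ, α, hα, hψα⟩ ⟨hR, hχ, ω, hω, hωχ, β, hβ, hωβ⟩ h
    have hmem : ∀ x : ↥(P ⊔ Q), ψ x ∈ R ⊔ Q := by
      intro x
      refine mem_of_sup (fun x => ?_) (fun x => ?_) x
      · rw [hψφ]
        exact Subgroup.mem_sup_left (h x)
      · rw [hψα]
        exact Subgroup.mem_sup_right (α x).2
    refine ⟨hP, fun x => hχ _, _, F.comp_mem hψ hω hmem, fun x => ?_, β * α, K.mul_mem hβ hα,
      fun x => ?_⟩
    · show ω ⟨ψ _, hmem _⟩ = χ ⟨φ x, h x⟩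
      rw [← hωχ]
      congr 1
      exact Subtype.ext (hψφ x)
    · show ω ⟨ψ _, hmem _⟩ = ((β * α) x : Q)
      rw [MulAut.mul_apply, ← hωβ]
      congr 1
      exact Subtype.ext (hψα x)
  inv_mem := by
    rintro P φ ⟨hP, hφ, ψ, hψ, hψφ, α, hα, hψα⟩
    have hr : ψ.range = φ.range ⊔ Q := by
      rw [range_sup]
      congr 1
      · ext z
        constructor
        · rintro ⟨x, rfl⟩
          exact ⟨x, (hψφ x).symm⟩
        · rintro ⟨x, rfl⟩
          exact ⟨x, hψφ x⟩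
      · ext z
        constructor
        · rintro ⟨x, rfl⟩
          show ψ (Subgroup.inclusion le_sup_right x) ∈ Q
          rw [hψα]
          exact (α x).2
        · intro hz
          refine ⟨α.symm ⟨z, hz⟩, ?_⟩
          show ψ (Subgroup.inclusion le_sup_right _) = z
          rw [hψα, MulEquiv.apply_symm_apply]
    obtain ⟨ψ', hψ', hψ'r, hψ'1, -⟩ := exists_inv hψ hr
    have h1 : ∀ x : P, ψ' ⟨φ x, Subgroup.mem_sup_left ⟨x, rfl⟩⟩ = x := by
      intro x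
      have h2 := hψ'1 (Subgroup.inclusion le_sup_left x)
        (by rw [hψφ]; exact Subgroup.mem_sup_left ⟨x, rfl⟩)
      rw [← show ((Subgroup.inclusion (le_sup_left : P ≤ P ⊔ Q) x : ↥(P ⊔ Q)) : Ω) = x from rfl,
        ← h2]
      congr 1
      exact Subtype.ext (hψφ x).symm
    refine ⟨ψ'.comp (Subgroup.inclusion le_sup_left), ⟨?_, ?_, ψ', hψ', fun x => rfl, α⁻¹,
      K.inv_mem hα, ?_⟩, h1⟩
    · rintro _ ⟨x, rfl⟩
      exact hφ x
    · rintro ⟨_, x, rfl⟩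
      show ψ' ⟨φ x, _⟩ ∈ _
      rw [h1 x]
      exact hP x.2
    · intro x
      have h2 := hψ'1 (Subgroup.inclusion le_sup_right (α⁻¹ x))
        (by rw [hψα]; exact Subgroup.mem_sup_right (α _).2)
      have h3 : α (α⁻¹ x) = x := α.apply_symm_apply x
      rw [← show ((Subgroup.inclusion (le_sup_right : Q ≤ P ⊔ Q) (α⁻¹ x) : ↥(P ⊔ Q)) : Ω) =
        ((α⁻¹ x : Q) : Ω) from rfl, ← h2]
      congr 1
      apply Subtype.ext
      show (x : Ω) = ψ (Subgroup.inclusion le_sup_right (α⁻¹ x))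
      rw [hψα, h3]

/-- The maps of `N_F(Q)` in the sense of the definitions are those of `N_F^{Aut(Q)}(Q)`. -/
theorem normalizerHom_eq (F : FusionSystem S) (Q P : Subgroup Ω) :
    F.normalizerHom Q P = kNormHom F Q ⊤ P := by
  ext φ
  constructor
  · rintro ⟨hφ, hP, hφN, ψ, hψ, h1, h2⟩
    rw [← kNorm_top] at hP hφN
    refine ⟨hP, hφN, ψ, hψ, h1, ?_⟩
    have hr : (ψ.comp (Subgroup.inclusion (le_sup_right : Q ≤ P ⊔ Q))).range = Q := by
      conv_rhs => rw [← h2]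
      ext z
      constructor
      · rintro ⟨x, rfl⟩
        exact ⟨Subgroup.inclusion le_sup_right x, x.2, rfl⟩
      · rintro ⟨x, hx, rfl⟩
        exact ⟨⟨x, hx⟩, rfl⟩
    exact ⟨isoOf _ (F.injective_of_mem (restrict_mem hψ le_sup_right)) hr, Subgroup.mem_top _,
      fun x => rfl⟩
  · rintro ⟨hP, hφN, ψ, hψ, h1, α, -, h2⟩
    have hφ : φ ∈ F.Hom P := mem_of_mem_kNormHom ⟨hP, hφN, ψ, hψ, h1, α, Subgroup.mem_top _, h2⟩
    rw [kNorm_top] at hP hφN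
    refine ⟨hφ, hP, hφN, ψ, hψ, h1, ?_⟩
    ext z
    constructor
    · rintro ⟨x, hx, rfl⟩
      have h3 := h2 ⟨x, hx⟩
      have h4 : Subgroup.inclusion (le_sup_right : Q ≤ P ⊔ Q) ⟨x, hx⟩ = x := rfl
      rw [h4] at h3
      rw [h3]
      exact (α _).2
    · intro hz
      refine ⟨Subgroup.inclusion le_sup_right (α.symm ⟨z, hz⟩), (α.symm ⟨z, hz⟩).2, ?_⟩
      rw [h2, MulEquiv.apply_symm_apply]

/-- The maps of `C_F(Q)` are those of `N_F^1(Q)`. -/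
theorem centralizerHom_eq (F : FusionSystem S) (Q P : Subgroup Ω) :
    F.centralizerHom Q P = kNormHom F Q ⊥ P := by
  ext φ
  constructor
  · rintro ⟨hφ, hP, hφN, ψ, hψ, h1, h2⟩
    rw [← kNorm_bot] at hP hφN
    exact ⟨hP, hφN, ψ, hψ, h1, 1, Subgroup.one_mem _, h2⟩
  · rintro ⟨hP, hφN, ψ, hψ, h1, α, hα, h2⟩
    have hφ : φ ∈ F.Hom P := mem_of_mem_kNormHom ⟨hP, hφN, ψ, hψ, h1, α, hα, h2⟩
    rw [Subgroup.mem_bot] at hα
    subst hα
    rw [kNorm_bot] at hP hφN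
    exact ⟨hφ, hP, hφN, ψ, hψ, h1, h2⟩

/-- Transport of a fusion system along an equality of the groups it lives over. -/
def castSystem {S T : Subgroup Ω} (h : S = T) (F : FusionSystem S) : FusionSystem T := h ▸ F

theorem castSystem_hom {S T : Subgroup Ω} (h : S = T) (F : FusionSystem S) (P : Subgroup Ω) :
    (castSystem h F).Hom P = F.Hom P := by
  subst h
  rfl

/-- `N_F(Q)` exists. -/
theorem exists_normalizerSystem (F : FusionSystem S) {Q : Subgroup Ω} (hQ : Q ≤ S) :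
    ∃ E : FusionSystem (normalizerIn S Q), F.IsNormalizerSystem Q E :=
  ⟨castSystem (kNorm_top S Q) (kNormSystem F hQ ⊤), fun P => by
    rw [castSystem_hom, normalizerHom_eq]
    rfl⟩

/-- `C_F(Q)` exists. -/
theorem exists_centralizerSystem (F : FusionSystem S) {Q : Subgroup Ω} (hQ : Q ≤ S) :
    ∃ E : FusionSystem (centralizerIn S Q), F.IsCentralizerSystem Q E :=
  ⟨castSystem (kNorm_bot S Q) (kNormSystem F hQ ⊥), fun P => by
    rw [castSystem_hom, centralizerHom_eq]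
    rfl⟩

end Cfsg.Agent.H802
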